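import Cfsg.Agent.H466.RealLift
import Cfsg.Agent.S3863
import Cfsg.Agent.S4060
import Cfsg.Agent.S4195
import Cfsg.Agent.PLocal.CoprimeLift
import Cfsg.Agent.Lib.Cores
import Cfsg.Agent.S3861
import Cfsg.Agent.FixBN.Split
import Cfsg.Agent.LieExceptional.BNPairCore
import Cfsg.Agent.FastGrp
import Cfsg.Agent.Prune
set_option linter.all false

section
prune_inst 0x7f00000000000000000000000000000000000000000000000000000000000000000000000000000000000000000000000000000000000000000000000000000000000000000000000000000000000000003fffffffffffffffffffffffffffbeffbdffffffff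

-- part: H132/Wand
section
set_option linter.all false
open scoped Cfsg.Agent.FastGrp

/-!
# Real elements of odd order normalising no Sylow 2-subgroup (S4011), reduction to simple groups

* `Wand G` : some element of odd order, conjugate to its inverse, normalises no Sylow 2-subgroup of `G`;
* `Wand.of_normal`, `Wand.of_quotient_two`, `Wand.of_quotient_odd` : inheritance;
* `wand_of_simple` : if all nonabelian simple groups satisfy `Wand`, so do all groups without normal Sylow 2-subgroup.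
-/

set_option autoImplicit false
set_option linter.unusedSectionVars false

namespace Cfsg.Agent.H132

open Subgroup

/-- `G` has an element of odd order, conjugate to its inverse, which normalises no Sylow 2-subgroup. -/
def Wand (G : Type*) [Group G] : Prop :=
  ∃ x : G, Odd (orderOf x) ∧ IsConj x x⁻¹ ∧ ∀ Q : Sylow 2 G, x ∉ Subgroup.normalizer ((Q : Subgroup G) : Set G)

theorem Wand.congr {G H : Type*} [Group G] [Group H] (e : G ≃* H) (h : Wand G) : Wand H := by
  obtain ⟨x, h1, h2, h3⟩ := h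
  refine ⟨e x, by rwa [MulEquiv.orderOf_eq], ?_, ?_⟩
  · rw [← map_inv]
    obtain ⟨c, hc⟩ := isConj_iff.1 h2
    exact isConj_iff.2 ⟨e c, by rw [← map_mul, ← map_inv, ← map_mul, hc]⟩
  · intro Q hQ
    have hinj : Function.Injective e.toMonoidHom := e.injective
    have hr : ((Q : Subgroup H) : Subgroup H) ≤ e.toMonoidHom.range := by
      intro y _
      exact ⟨e.symm y, e.apply_symm_apply y⟩
    let Q' : Sylow 2 G := Q.comapOfInjective e.toMonoidHom hinj hr
    apply h3 Q'
    rw [mem_normalizer_iff]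
    intro g
    have h4 := (mem_normalizer_iff.1 hQ) (e g)
    change e g ∈ (Q : Subgroup H) ↔ e (x * g * x⁻¹) ∈ (Q : Subgroup H)
    rw [map_mul, map_mul, map_inv]
    exact h4

variable {G : Type*} [Group G] [Finite G]

/-- Normality of one Sylow subgroup does not depend on the choice. -/
theorem normal_of_sylow {p : ℕ} [Fact p.Prime] (P Q : Sylow p G) (h : (P : Subgroup G).Normal) :
    (Q : Subgroup G).Normal := by
  have := Sylow.unique_of_normal P h
  have e : Q = P := Subsingleton.elim _ _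
  rwa [e]

/-- A Sylow subgroup meets a normal subgroup in a Sylow subgroup. -/
theorem exists_sylow_subgroupOf {p : ℕ} [Fact p.Prime] (Q : Sylow p G) (N : Subgroup G) [N.Normal] :
    ∃ R : Sylow p N, (R : Subgroup N) = (Q : Subgroup G).subgroupOf N := by
  have h1 : IsPGroup p ((Q : Subgroup G).subgroupOf N) := by
    exact Q.2.comap_of_injective N.subtype N.subtype_injective
  have h2 : ((Q : Subgroup G).subgroupOf N).index ∣ (Q : Subgroup G).index := by
    change (Q : Subgroup G).relIndex N ∣ _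
    have e1 : ((Q : Subgroup G) ⊓ N).relIndex Q * (Q : Subgroup G).index = ((Q : Subgroup G) ⊓ N).index :=
      relIndex_mul_index inf_le_left
    have e2 : ((Q : Subgroup G) ⊓ N).relIndex N * N.index = ((Q : Subgroup G) ⊓ N).index :=
      relIndex_mul_index inf_le_right
    rw [inf_relIndex_left] at e1
    rw [inf_relIndex_right] at e2
    obtain ⟨m, hm⟩ := relIndex_dvd_index_of_normal (H := N) (K := (Q : Subgroup G))
    refine ⟨m, ?_⟩
    have h0 : 0 < N.relIndex (Q : Subgroup G) := Nat.pos_of_ne_zero (by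
      rw [relIndex]; exact index_ne_zero_of_finite)
    apply Nat.eq_of_mul_eq_mul_left h0
    rw [e1, ← e2, hm]
    ring
  have h3 : ¬ p ∣ ((Q : Subgroup G).subgroupOf N).index := fun h => Q.not_dvd_index (h.trans h2)
  exact ⟨h1.toSylow h3, rfl⟩

theorem Wand.of_normal (N : Subgroup G) [N.Normal] (h : Wand N) : Wand G := by
  obtain ⟨x, h1, h2, h3⟩ := h
  refine ⟨x, by rwa [orderOf_coe], ?_, ?_⟩
  · obtain ⟨c, hc⟩ := isConj_iff.1 h2
    exact isConj_iff.2 ⟨c, by
      have := congrArg Subtype.val hc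
      simpa using this⟩
  · intro Q hQ
    obtain ⟨R, hR⟩ := exists_sylow_subgroupOf Q N
    apply h3 R
    rw [hR, mem_normalizer_iff]
    intro g
    rw [mem_subgroupOf, mem_subgroupOf]
    exact (mem_normalizer_iff.1 hQ) g

/-- An element of odd order normalising a Sylow subgroup normalises its image. -/
theorem normalizer_map {p : ℕ} [Fact p.Prime] (N : Subgroup G) [N.Normal] (Q : Sylow p G) {x : G}
    (hx : x ∈ normalizer ((Q : Subgroup G) : Set G)) :
    (QuotientGroup.mk x : G ⧸ N) ∈ normalizer (((Q : Subgroup G).map (QuotientGroup.mk' N) : Subgroup (G ⧸ N)) : Set (G ⧸ N)) := by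
  have := Subgroup.le_normalizer_map (QuotientGroup.mk' N) (H := (Q : Subgroup G)) (mem_map_of_mem _ hx)
  exact this

theorem exists_sylow_map {p : ℕ} [Fact p.Prime] (N : Subgroup G) [N.Normal] (Q : Sylow p G) :
    ∃ R : Sylow p (G ⧸ N), (R : Subgroup (G ⧸ N)) = (Q : Subgroup G).map (QuotientGroup.mk' N) := by
  have hs : Function.Surjective (QuotientGroup.mk' N) := QuotientGroup.mk'_surjective N
  exact ⟨Q.mapSurjective hs, rfl⟩

theorem not_mem_normalizer_of_quotient (N : Subgroup G) [N.Normal] {x : G}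
    (h : ∀ Q : Sylow 2 (G ⧸ N), (QuotientGroup.mk x : G ⧸ N) ∉ normalizer ((Q : Subgroup (G ⧸ N)) : Set (G ⧸ N)))
    (Q : Sylow 2 G) : x ∉ normalizer ((Q : Subgroup G) : Set G) := by
  intro hx
  obtain ⟨R, hR⟩ := exists_sylow_map N Q
  apply h R
  rw [hR]
  exact normalizer_map N Q hx

theorem Wand.of_quotient_two (N : Subgroup G) [N.Normal] (hN : IsPGroup 2 N) (h : Wand (G ⧸ N)) : Wand G := by
  obtain ⟨q, h1, h2, h3⟩ := h
  obtain ⟨y, hy, hyo⟩ := H466.RealLift.exists_odd_lift N q h1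
  subst hy
  have hcop : ∀ z : G, Odd (orderOf z) → (orderOf z).Coprime (Nat.card N) := by
    intro z hz
    obtain ⟨k, hk⟩ := IsPGroup.iff_card.1 hN
    rw [hk]
    exact Nat.Coprime.pow_right _ ((Nat.coprime_two_right).2 hz)
  refine ⟨y, hyo, ?_, not_mem_normalizer_of_quotient N h3⟩
  apply H466.RealLift.isConj_of_quotient N (hcop _ hyo) (hcop _ (by rwa [orderOf_inv]))
  exact h2

/-- Lifting a real element of odd order modulo a normal subgroup of odd order. -/
theorem exists_real_lift_odd (N : Subgroup G) [N.Normal] (hN : Odd (Nat.card N)) (q : G ⧸ N)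
    (hq : Odd (orderOf q)) (hr : IsConj q q⁻¹) :
    ∃ x : G, (QuotientGroup.mk x : G ⧸ N) = q ∧ Odd (orderOf x) ∧ IsConj x x⁻¹ := by
  obtain ⟨t, ⟨j, hj⟩, ht⟩ := S3863.exists_two_element hr
  obtain ⟨s, rfl⟩ := QuotientGroup.mk_surjective t
  -- a 2-element lifting `t`
  obtain ⟨g, hg, m, hgm⟩ : ∃ g : G, (QuotientGroup.mk g : G ⧸ N) = QuotientGroup.mk s ∧ ∃ m : ℕ, orderOf g = 2 ^ m := by
    have hcop : (Nat.card N).Coprime (orderOf (QuotientGroup.mk s : G ⧸ N)) := by
      rw [hj]
      exact Nat.Coprime.pow_right _ ((Nat.coprime_two_right).2 hN)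
    obtain ⟨u, hu⟩ := exists_pow_eq_self_of_coprime hcop
    refine ⟨(s ^ Nat.card N) ^ u, by rw [QuotientGroup.mk_pow, QuotientGroup.mk_pow]; exact hu, ?_⟩
    have h1 : s ^ (2 ^ j) ∈ N := by
      rw [← QuotientGroup.eq_one_iff, QuotientGroup.mk_pow, ← hj]
      exact pow_orderOf_eq_one _
    have h2 : ((s ^ Nat.card N) ^ u) ^ (2 ^ j) = 1 := by
      have h3 : (s ^ 2 ^ j) ^ Nat.card N = 1 := by
        have h5 := pow_card_eq_one' (x := (⟨s ^ 2 ^ j, h1⟩ : N))
        have h6 := congrArg Subtype.val h5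
        exact h6
      have h4 : ((s ^ Nat.card N) ^ u) ^ (2 ^ j) = ((s ^ 2 ^ j) ^ Nat.card N) ^ u := by
        rw [← pow_mul, ← pow_mul, ← pow_mul, ← pow_mul]
        congr 1
        ring
      rw [h4, h3, one_pow]
    obtain ⟨m, -, hm⟩ := (Nat.dvd_prime_pow Nat.prime_two).1 (orderOf_dvd_of_pow_eq_one h2)
    exact ⟨m, hm⟩
  -- `q` commutes with `t ^ 2`
  have hc : QuotientGroup.mk (g ^ 2) * q = q * (QuotientGroup.mk (g ^ 2) : G ⧸ N) := by
    rw [QuotientGroup.mk_pow, hg]
    have h1 : (QuotientGroup.mk s : G ⧸ N) * q = q⁻¹ * QuotientGroup.mk s := by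
      rw [← ht]; group
    have h2 : (QuotientGroup.mk s : G ⧸ N) * q⁻¹ = q * QuotientGroup.mk s := by
      have := congrArg (fun z => z⁻¹) ht
      simp only [mul_inv_rev, inv_inv] at this
      calc (QuotientGroup.mk s : G ⧸ N) * q⁻¹
          = (QuotientGroup.mk s * (q⁻¹ * (QuotientGroup.mk s)⁻¹)) * QuotientGroup.mk s := by group
        _ = q * QuotientGroup.mk s := by rw [this]
    rw [pow_two, mul_assoc, h1, ← mul_assoc, h2, mul_assoc]
  -- a square root of `q⁻¹` inside `⟨q⟩`
  obtain ⟨k, hk⟩ : ∃ k : ℕ, (q ^ k) ^ 2 = q := by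
    obtain ⟨k, hk⟩ := exists_pow_eq_self_of_coprime ((Nat.coprime_two_left).2 hq)
    refine ⟨k, ?_⟩
    rw [← pow_mul, mul_comm, pow_mul]
    exact hk
  have hcent : (q ^ k)⁻¹ ∈ centralizer (((zpowers (g ^ 2)).map (QuotientGroup.mk' N) : Subgroup (G ⧸ N)) : Set (G ⧸ N)) := by
    apply inv_mem
    apply pow_mem
    rw [mem_centralizer_iff]
    rintro _ ⟨z, hz, rfl⟩
    obtain ⟨i, rfl⟩ := mem_zpowers_iff.1 hz
    rw [map_zpow]
    exact ((show Commute (QuotientGroup.mk' N (g ^ 2)) q from hc).zpow_left i)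
  have hp : IsPGroup 2 (zpowers (g ^ 2)) := by
    have h1 : orderOf (g ^ 2) ∣ 2 ^ m := by rw [← hgm]; exact orderOf_pow_dvd _
    obtain ⟨m', -, hm'⟩ := (Nat.dvd_prime_pow Nat.prime_two).1 h1
    exact IsPGroup.of_card (n := m') (by rw [Nat.card_zpowers, hm'])
  rw [← PLocal.CoprimeLift.map_centralizer_mk N (zpowers (g ^ 2)) ((Nat.coprime_two_right).2 hN) hp] at hcent
  obtain ⟨a, ha, haq⟩ := hcent
  have hag : a * g ^ 2 = g ^ 2 * a := by
    rw [SetLike.mem_coe, mem_centralizer_iff] at ha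
    exact (ha (g ^ 2) (mem_zpowers _)).symm
  -- the lift
  set x : G := a⁻¹ * (g * a * g⁻¹) with hx
  have hgx : g * x * g⁻¹ = x⁻¹ := by
    have h1 : g * (g * a * g⁻¹) * g⁻¹ = a := by
      have : g * (g * a * g⁻¹) * g⁻¹ = (g ^ 2 * a) * (g ^ 2)⁻¹ := by rw [pow_two]; group
      rw [this, ← hag]; group
    calc g * x * g⁻¹ = (g * a * g⁻¹)⁻¹ * (g * (g * a * g⁻¹) * g⁻¹) := by rw [hx]; group
      _ = (g * a * g⁻¹)⁻¹ * a := by rw [h1]
      _ = x⁻¹ := by rw [hx]; group
  have hxq : (QuotientGroup.mk x : G ⧸ N) = q := by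
    have h1 : (QuotientGroup.mk s : G ⧸ N) * (q ^ k)⁻¹ * (QuotientGroup.mk s)⁻¹ = q ^ k := by
      have h2 : (QuotientGroup.mk s : G ⧸ N) * (q ^ k)⁻¹ * (QuotientGroup.mk s)⁻¹ =
          ((QuotientGroup.mk s * q * (QuotientGroup.mk s)⁻¹) ^ k)⁻¹ := by
        rw [conj_pow]; group
      rw [h2, ht, inv_pow, inv_inv]
    have haq' : (QuotientGroup.mk a : G ⧸ N) = (q ^ k)⁻¹ := haq
    rw [hx, QuotientGroup.mk_mul, QuotientGroup.mk_mul, QuotientGroup.mk_mul, QuotientGroup.mk_inv,
      QuotientGroup.mk_inv, hg, haq', h1, inv_inv, ← pow_two]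
    exact hk
  -- pass to a power of odd order
  obtain ⟨b, c, hc', hbc⟩ := Nat.exists_eq_two_pow_mul_odd (orderOf_pos x).ne'
  have hcop : (2 ^ b).Coprime (orderOf q) := Nat.Coprime.pow_left _ ((Nat.coprime_two_left).2 hq)
  obtain ⟨u, hu⟩ := exists_pow_eq_self_of_coprime hcop
  refine ⟨x ^ (2 ^ b * u), ?_, ?_, ?_⟩
  · rw [QuotientGroup.mk_pow, hxq, pow_mul]
    exact hu
  · have h1 : orderOf (x ^ (2 ^ b * u)) ∣ c := by
      rw [orderOf_dvd_iff_pow_eq_one, ← pow_mul]
      have : 2 ^ b * u * c = orderOf x * u := by rw [hbc]; ring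
      rw [this, pow_mul, pow_orderOf_eq_one, one_pow]
    exact hc'.of_dvd_nat h1
  · rw [isConj_iff]
    refine ⟨g, ?_⟩
    rw [← conj_pow, hgx, inv_pow]

theorem Wand.of_quotient_odd (N : Subgroup G) [N.Normal] (hN : Odd (Nat.card N)) (h : Wand (G ⧸ N)) : Wand G := by
  obtain ⟨q, h1, h2, h3⟩ := h
  obtain ⟨x, rfl, hxo, hxr⟩ := exists_real_lift_odd N hN q h1 h2
  exact ⟨x, hxo, hxr, not_mem_normalizer_of_quotient N h3⟩

/-- A normal 2-closed subgroup of a group with `O₂(G) = 1` has odd order. -/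
theorem odd_of_normal_sylow (N : Subgroup G) [hNn : N.Normal] (hG : pCore 2 G = ⊥) (P : Sylow 2 N)
    (hP : (P : Subgroup N).Normal) : Odd (Nat.card N) := by
  have hch : (P : Subgroup N).Characteristic := Sylow.characteristic_of_normal P hP
  have h1 : ((P : Subgroup N).map N.subtype).Normal := by
    infer_instance
  have h2 : IsPGroup 2 ((P : Subgroup N).map N.subtype) := P.2.map _
  have h3 : (P : Subgroup N).map N.subtype ≤ pCore 2 G := Lib.Cores.le_pCore h1 h2
  rw [hG, le_bot_iff, map_eq_bot_iff_of_injective _ N.subtype_injective] at h3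
  have h4 : ¬ 2 ∣ (P : Subgroup N).index := P.not_dvd_index
  rw [h3, index_bot] at h4
  rw [← Nat.not_even_iff_odd, even_iff_two_dvd]
  exact h4

omit [Finite G] in
theorem card_quotient_lt [Finite G] {N : Subgroup G} [N.Normal] (hN : N ≠ ⊥) : Nat.card (G ⧸ N) < Nat.card G := by
  have h1 := card_eq_card_quotient_mul_card_subgroup N
  have h2 : 1 < Nat.card N := (one_lt_card_iff_ne_bot N).2 hN
  have h3 : 0 < Nat.card (G ⧸ N) := Nat.card_pos
  rw [h1]
  nlinarith

theorem card_lt_of_ne_top {N : Subgroup G} (hN : N ≠ ⊤) : Nat.card N < Nat.card G := by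
  refine lt_of_le_of_ne (Nat.le_of_dvd Nat.card_pos (card_subgroup_dvd_card N)) ?_
  intro h
  exact hN (eq_top_of_card_eq N h)

universe u

/-- Reduction to simple groups. `hs` may use the statement for all smaller groups. -/
theorem wand_of_simple
    (hs : ∀ (S : Type u) [Group S] [Finite S], IsSimpleGroup S → ¬ IsMulCommutative S →
      (∀ P : Sylow 2 S, ¬ (P : Subgroup S).Normal) → (∀ (H : Type u) [Group H] [Finite H], Nat.card H < Nat.card S → ∀ P : Sylow 2 H, ¬ (P : Subgroup H).Normal →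
        Wand H) → Wand S) :
    ∀ (n : ℕ) (G : Type u) [Group G] [Finite G], Nat.card G = n → ∀ P : Sylow 2 G, ¬ (P : Subgroup G).Normal →
      Wand G := by
  intro n
  induction n using Nat.strong_induction_on with
  | _ n ih =>
    intro G _ _ hn P hP
    have ih' : ∀ (H : Type u) [Group H] [Finite H], Nat.card H < Nat.card G → ∀ P : Sylow 2 H,
        ¬ (P : Subgroup H).Normal → Wand H := by
      intro H _ _ hH Q hQ
      exact ih (Nat.card H) (by omega) H rfl Q hQ
    have : Nontrivial G := by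
      by_contra hnt
      rw [not_nontrivial_iff_subsingleton] at hnt
      apply hP
      have : (P : Subgroup G) = ⊥ := Subsingleton.elim _ _
      rw [this]; infer_instance
    -- `O₂(G) = 1`
    by_cases hO : pCore 2 G = ⊥
    swap
    · have hn' : (pCore 2 G).Normal := Lib.Cores.pCore_normal 2
      apply Wand.of_quotient_two (pCore 2 G) (Lib.Cores.pCore_isPGroup 2)
      obtain ⟨R, hR⟩ := exists_sylow_map (pCore 2 G) P
      refine ih' (G ⧸ pCore 2 G) (card_quotient_lt hO) R ?_
      intro hRn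
      apply hP
      rw [hR] at hRn
      have h1 := hRn.comap (QuotientGroup.mk' (pCore 2 G))
      rw [comap_map_eq, QuotientGroup.ker_mk', sup_eq_left.2 (Lib.Cores.pCore_le_sylow P)] at h1
      exact h1
    by_cases hS : IsSimpleGroup G
    · refine hs G hS ?_ (fun Q hQ => hP (normal_of_sylow Q P hQ)) ih'
      intro hc
      apply hP
      exact ⟨fun x hx g => by
        have : g * x = x * g := hc.is_comm.comm g x
        rw [this, mul_inv_cancel_right]; exact hx⟩
    -- a proper nontrivial normal subgroup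
    obtain ⟨N, hN, hN1, hN2⟩ : ∃ N : Subgroup G, N.Normal ∧ N ≠ ⊥ ∧ N ≠ ⊤ := by
      by_contra hno
      push Not at hno
      apply hS
      exact ⟨fun N hN => by
        by_cases h : N = ⊥
        · exact Or.inl h
        · exact Or.inr (hno N hN h)⟩
    by_cases hNP : ∀ Q : Sylow 2 N, (Q : Subgroup N).Normal
    swap
    · push Not at hNP
      obtain ⟨Q, hQ⟩ := hNP
      exact Wand.of_normal N (ih' N (card_lt_of_ne_top hN2) Q hQ)
    have hNo : Odd (Nat.card N) := odd_of_normal_sylow N hO default (hNP _)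
    obtain ⟨R, hR⟩ := exists_sylow_map N P
    by_cases hRn : (R : Subgroup (G ⧸ N)).Normal
    swap
    · exact Wand.of_quotient_odd N hNo (ih' (G ⧸ N) (card_quotient_lt hN1) R hRn)
    rw [hR] at hRn
    have h1 := hRn.comap (QuotientGroup.mk' N)
    rw [comap_map_eq, QuotientGroup.ker_mk'] at h1
    by_cases hT : (P : Subgroup G) ⊔ N = ⊤
    swap
    · apply Wand.of_normal ((P : Subgroup G) ⊔ N)
      obtain ⟨Q, hQ⟩ := exists_sylow_subgroupOf P ((P : Subgroup G) ⊔ N)
      refine ih' _ (card_lt_of_ne_top hT) Q ?_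
      intro hQn
      have h2 := odd_of_normal_sylow ((P : Subgroup G) ⊔ N) hO Q hQn
      apply hP
      have h3 : Odd (Nat.card (P : Subgroup G)) := h2.of_dvd_nat (card_dvd_of_le le_sup_left)
      have h4 : (P : Subgroup G) = ⊥ := by
        obtain ⟨k, hk⟩ := IsPGroup.iff_card.1 P.2
        rw [hk] at h3
        rcases Nat.eq_zero_or_pos k with h0 | h0
        · rw [h0, pow_zero] at hk
          exact card_eq_one.1 hk
        · exfalso
          rw [← Nat.not_even_iff_odd] at h3
          exact h3 (Nat.even_pow.2 ⟨even_two, by omega⟩)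
      rw [h4]; infer_instance
    -- `G = N P`, `N` of odd order
    have hPne : (P : Subgroup G) ≠ ⊥ := fun h => hP (by rw [h]; infer_instance)
    obtain ⟨t, htP, hto⟩ : ∃ t ∈ (P : Subgroup G), orderOf t = 2 := by
      obtain ⟨k, hk⟩ := IsPGroup.iff_card.1 P.2
      have hk0 : k ≠ 0 := by
        rintro rfl
        exact hPne (card_eq_one.1 (by rw [hk, pow_zero]))
      obtain ⟨t, ht⟩ := exists_prime_orderOf_dvd_card' (G := (P : Subgroup G)) 2 (by rw [hk]; exact dvd_pow_self 2 hk0)
      exact ⟨t, t.2, by rwa [orderOf_coe]⟩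
    -- `C_P(N) = 1`
    obtain ⟨a, haN, hat⟩ : ∃ a ∈ N, t * a ≠ a * t := by
      by_contra hall
      push Not at hall
      have hK : ((P : Subgroup G) ⊓ centralizer (N : Set G)).Normal := by
        have h2 : N ≤ normalizer (((P : Subgroup G) ⊓ centralizer (N : Set G) : Subgroup G) : Set G) := by
          intro b hb
          rw [mem_normalizer_iff]
          intro c
          constructor
          · intro hc
            have : b * c * b⁻¹ = c := by
              rw [(mem_centralizer_iff.1 hc.2) b hb, mul_inv_cancel_right]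
            rw [this]; exact hc
          · intro hc
            have h3 : b⁻¹ * (b * c * b⁻¹) * b = b * c * b⁻¹ := by
              have h4 := (mem_centralizer_iff.1 hc.2) b⁻¹ (inv_mem hb)
              rw [h4, inv_mul_cancel_right]
            have h5 : c = b * c * b⁻¹ := by
              rw [← h3]; group
            rw [h5]; exact hc
        have h3 : (P : Subgroup G) ≤ normalizer (((P : Subgroup G) ⊓ centralizer (N : Set G) : Subgroup G) : Set G) := by
          refine le_trans (le_inf le_normalizer ?_) inf_normalizer_le_normalizer_inf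
          have h4 : (centralizer (N : Set G)).Normal := inferInstance
          rw [normalizer_eq_top_iff.2 h4]
          exact le_top
        rw [← normalizer_eq_top_iff]
        exact top_le_iff.1 (hT ▸ sup_le h3 h2)
      have h2 : (P : Subgroup G) ⊓ centralizer (N : Set G) ≤ pCore 2 G :=
        Lib.Cores.le_pCore hK (P.2.to_le inf_le_left)
      rw [hO, le_bot_iff] at h2
      have h3 : t ∈ (P : Subgroup G) ⊓ centralizer (N : Set G) := by
        exact mem_inf.2 ⟨htP, mem_centralizer_iff.2 fun b hb => (hall b hb).symm⟩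
      rw [h2, mem_bot] at h3
      rw [h3, orderOf_one] at hto
      omega
    have ht2 : t * t = 1 := by rw [← pow_two, ← hto, pow_orderOf_eq_one]
    have hti : t⁻¹ = t := inv_eq_of_mul_eq_one_right ht2
    set x : G := a⁻¹ * (t * a * t⁻¹) with hx
    have hxN : x ∈ N := mul_mem (inv_mem haN) (hN.conj_mem a haN t)
    have hx1 : x ≠ 1 := by
      intro h0
      apply hat
      have h2 : a = t * a * t⁻¹ := (inv_mul_eq_one.1 h0)
      nth_rewrite 2 [h2]
      group
    have htx : t * x * t⁻¹ = x⁻¹ := by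
      rw [hx, hti]
      have : t * (a⁻¹ * (t * a * t)) * t = t * a⁻¹ * t * a * (t * t) := by group
      rw [this, ht2, mul_one, mul_inv_rev, mul_inv_rev, mul_inv_rev, hti, inv_inv]
      group
    refine ⟨x, ?_, isConj_iff.2 ⟨t, htx⟩, ?_⟩
    · exact hNo.of_dvd_nat (orderOf_dvd_natCard N hxN)
    · intro Q hQ
      exact hx1 (S4060.eq_one_of_mem N hNo Q x hxN hQ (isConj_iff.2 ⟨t, htx⟩))

end Cfsg.Agent.H132
end

-- part: H132/Crit
section
set_option linter.all false
open scoped Cfsg.Agent.FastGrp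

/-!
# Criteria for `Wand`

* `wand_of_self` : a self-normalising Sylow 2-subgroup which is not the whole group;
* `wand_of_real` : a real element of odd prime order `r` with `r ∤ 2 ^ (a - c) - 1`, `|G|₂ = 2 ^ a`, `2 ^ c ∣ |C(x)|`.
-/

set_option autoImplicit false
set_option linter.unusedSectionVars false

namespace Cfsg.Agent.H132

open Subgroup

variable {G : Type*} [Group G] [Finite G]

/-- Sylow normalisers are conjugate: a property of one is a property of all. -/
theorem normalizer_odd_trivial_all {p : ℕ} [Fact p.Prime] (P Q : Sylow p G)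
    (h : ∀ x ∈ normalizer ((P : Subgroup G) : Set G), Odd (orderOf x) → IsConj x x⁻¹ → x = 1) :
    ∀ x ∈ normalizer ((Q : Subgroup G) : Set G), Odd (orderOf x) → IsConj x x⁻¹ → x = 1 := by
  intro x hx ho hr
  obtain ⟨g, hg⟩ := MulAction.exists_smul_eq G Q P
  have h1 : g * x * g⁻¹ ∈ normalizer ((P : Subgroup G) : Set G) := by
    rw [← hg, mem_normalizer_iff]
    intro y
    have h2 := (mem_normalizer_iff.1 hx) (g⁻¹ * y * g)
    rw [Sylow.coe_subgroup_smul, mem_pointwise_smul_iff_inv_smul_mem, mem_pointwise_smul_iff_inv_smul_mem]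
    simp only [MulAut.smul_def, MulAut.conj_inv_apply] at *
    rw [h2]
    apply iff_of_eq
    congr 1
    group
  have h3 : g * x * g⁻¹ = 1 := by
    apply h _ h1
    · have h3 : orderOf (g * x * g⁻¹) = orderOf x := by
        have := orderOf_injective (MulAut.conj g).toMonoidHom (MulAut.conj g).injective x
        simpa using this
      rw [h3]; exact ho
    · obtain ⟨c, hc⟩ := isConj_iff.1 hr
      refine isConj_iff.2 ⟨g * c * g⁻¹, ?_⟩
      calc g * c * g⁻¹ * (g * x * g⁻¹) * (g * c * g⁻¹)⁻¹ = g * (c * x * c⁻¹) * g⁻¹ := by group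
        _ = (g * x * g⁻¹)⁻¹ := by rw [hc]; group
  have h4 : x = g⁻¹ * (g * x * g⁻¹) * g := by group
  rw [h4, h3]; group

/-- No real element of odd order normalises `P`. -/
theorem wand_of_trivial (P : Sylow 2 G) (hP : ¬ (P : Subgroup G).Normal)
    (h : ∀ x ∈ normalizer ((P : Subgroup G) : Set G), Odd (orderOf x) → IsConj x x⁻¹ → x = 1) : Wand G := by
  have h1 := (S3861.result P).not.2 hP
  push Not at h1
  obtain ⟨x, hx1, hxo, hxr⟩ := h1
  exact ⟨x, hxo, hxr, fun Q hQ => hx1 (normalizer_odd_trivial_all P Q h x hQ hxo hxr)⟩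

theorem wand_of_self (P : Sylow 2 G) (hP : ¬ (P : Subgroup G).Normal)
    (h : normalizer ((P : Subgroup G) : Set G) = (P : Subgroup G)) : Wand G := by
  apply wand_of_trivial P hP
  intro x hx ho _
  rw [h] at hx
  obtain ⟨k, hk⟩ := (IsPGroup.iff_orderOf.1 P.2) ⟨x, hx⟩
  rw [← orderOf_coe] at hk
  change orderOf x = 2 ^ k at hk
  rw [hk] at ho
  rcases Nat.eq_zero_or_pos k with h0 | h0
  · rw [h0, pow_zero] at hk
    exact orderOf_eq_one_iff.1 hk
  · exfalso
    rw [← Nat.not_even_iff_odd] at ho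
    exact ho (Nat.even_pow.2 ⟨even_two, by omega⟩)

/-- A real element of odd order `≠ 1` centralises no Sylow 2-subgroup. -/
theorem not_le_centralizer {x : G} (ho : Odd (orderOf x)) (hr : IsConj x x⁻¹) (hx : x ≠ 1) (Q : Sylow 2 G) :
    ¬ (Q : Subgroup G) ≤ centralizer ({x} : Set G) := by
  intro h
  have := S4195.result x hx Q h hr
  rw [this] at ho
  exact absurd ho (by decide)

/-- The fixed points of an element of prime order `r` normalising a finite subgroup `Q`. -/
theorem card_modEq {r : ℕ} (hr : r.Prime) {x : G} (hx : orderOf x = r) (Q : Subgroup G)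
    (hQ : x ∈ normalizer (Q : Set G)) :
    Nat.card Q ≡ Nat.card ↥(Q ⊓ centralizer ({x} : Set G)) [MOD r] := by
  have : Fact r.Prime := ⟨hr⟩
  have hZ : zpowers x ≤ normalizer (Q : Set G) := by rwa [zpowers_le]
  let f : zpowers x →* MulAut Q := Q.normalizerMonoidHom.comp (inclusion hZ)
  let _ : MulAction (zpowers x) Q := MulAction.compHom Q f
  have hf : ∀ (z : zpowers x) (y : Q), ((z • y : Q) : G) = z * y * (z : G)⁻¹ := by
    intro z y
    rfl
  have hp : IsPGroup r (zpowers x) := IsPGroup.of_card (n := 1) (by rw [Nat.card_zpowers, hx, pow_one])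
  have h1 := hp.card_modEq_card_fixedPoints Q
  refine h1.trans ?_
  have h2 : Nat.card (MulAction.fixedPoints (zpowers x) Q) = Nat.card ↥(Q ⊓ centralizer ({x} : Set G)) := by
    apply Nat.card_congr
    refine ⟨fun y => ⟨y.1, y.1.2, ?_⟩, fun y => ⟨⟨y.1, y.2.1⟩, ?_⟩, fun y => rfl, fun y => rfl⟩
    · have h3 := congrArg Subtype.val (y.2 ⟨x, mem_zpowers x⟩)
      rw [hf] at h3
      change (y.1 : G) ∈ centralizer ({x} : Set G)
      rw [mem_centralizer_singleton_iff]
      exact (mul_inv_eq_iff_eq_mul.1 h3).symm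
    · rintro ⟨z, hz⟩
      obtain ⟨k, rfl⟩ := mem_zpowers_iff.1 hz
      apply Subtype.ext
      rw [hf]
      have h3 : (y.1 : G) ∈ centralizer ({x} : Set G) := y.2.2
      rw [mem_centralizer_singleton_iff] at h3
      have h4 : Commute (x ^ k) (y.1 : G) := (show Commute x (y.1 : G) from h3.symm).zpow_left k
      change x ^ k * (y.1 : G) * (x ^ k)⁻¹ = _
      rw [h4.eq, mul_inv_cancel_right]
  rw [h2]

/-- **The numerical criterion.** -/
theorem wand_of_real {r a b : ℕ} (hr : r.Prime) (hr2 : r ≠ 2) {x : G} (hx : orderOf x = r)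
    (hreal : IsConj x x⁻¹) (ha : 2 ^ a ∣ Nat.card G) (ha' : ¬ 2 ^ (a + 1) ∣ Nat.card G)
    (hb : ¬ 2 ^ (b + 1) ∣ Nat.card (centralizer ({x} : Set G)))
    (hnum : ∀ c ≤ b, c < a → ¬ r ∣ 2 ^ (a - c) - 1) : Wand G := by
  have hodd : Odd (orderOf x) := by rw [hx]; exact hr.odd_of_ne_two hr2
  refine ⟨x, hodd, hreal, ?_⟩
  intro Q hQ
  have hx1 : x ≠ 1 := by
    rintro rfl
    rw [orderOf_one] at hx
    exact hr.one_lt.ne hx
  have h1 := card_modEq hr hx (Q : Subgroup G) hQ
  have hQc : Nat.card (Q : Subgroup G) = 2 ^ a := by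
    rw [Sylow.card_eq_multiplicity]
    congr 1
    apply le_antisymm
    · by_contra hlt
      push Not at hlt
      exact ha' ((Nat.pow_dvd_pow 2 hlt).trans (Nat.ordProj_dvd _ _))
    · exact (Nat.prime_two.pow_dvd_iff_le_factorization Nat.card_pos.ne').1 ha
  obtain ⟨c, hc⟩ := IsPGroup.iff_card.1 (Q.2.to_le (inf_le_left : (Q : Subgroup G) ⊓ centralizer ({x} : Set G) ≤ _))
  have hcb : c ≤ b := by
    by_contra hlt
    push Not at hlt
    apply hb
    have h2 := card_dvd_of_le (inf_le_right : (Q : Subgroup G) ⊓ centralizer ({x} : Set G) ≤ centralizer {x})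
    rw [hc] at h2
    exact (Nat.pow_dvd_pow 2 hlt).trans h2
  have hca : c < a := by
    by_contra hle
    push Not at hle
    apply not_le_centralizer hodd hreal hx1 Q
    have h2 : Nat.card ↥((Q : Subgroup G) ⊓ centralizer ({x} : Set G)) = Nat.card (Q : Subgroup G) := by
      apply le_antisymm (card_le_of_le inf_le_left)
      rw [hc, hQc]
      exact Nat.pow_le_pow_right (by norm_num) hle
    have h3 : (Q : Subgroup G) ⊓ centralizer ({x} : Set G) = Q := eq_of_le_of_card_ge inf_le_left h2.ge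
    exact inf_eq_left.1 h3
  apply hnum c hcb hca
  rw [hQc, hc] at h1
  have h2 : (2 : ℕ) ^ a = 2 ^ c * 2 ^ (a - c) := by rw [← pow_add]; congr 1; omega
  have h3 : r ∣ 2 ^ c * (2 ^ (a - c) - 1) := by
    rw [Nat.mul_sub, mul_one, ← h2]
    exact (Nat.modEq_iff_dvd' (Nat.pow_le_pow_right (by norm_num) hca.le)).1 h1.symm
  have h4 : r.Coprime (2 ^ c) := Nat.Coprime.pow_right _ ((Nat.coprime_primes hr Nat.prime_two).2 hr2)
  exact h4.dvd_of_dvd_mul_left h3

/-- The case in which `r` divides no `2 ^ k - 1`, `1 ≤ k ≤ a`. -/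
theorem wand_of_large {r a : ℕ} (hr : r.Prime) (hr2 : r ≠ 2) {x : G} (hx : orderOf x = r)
    (hreal : IsConj x x⁻¹) (ha' : ¬ 2 ^ (a + 1) ∣ Nat.card G)
    (hnum : ∀ k, 1 ≤ k → k ≤ a → ¬ r ∣ 2 ^ k - 1) : Wand G := by
  have hpos : Nat.card G ≠ 0 := Nat.card_pos.ne'
  have h1 : (Nat.card G).factorization 2 ≤ a := by
    by_contra hlt
    push Not at hlt
    exact ha' ((Nat.prime_two.pow_dvd_iff_le_factorization hpos).2 hlt)
  refine wand_of_real (a := (Nat.card G).factorization 2) (b := a) hr hr2 hx hreal (Nat.ordProj_dvd _ _)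
    (Nat.pow_succ_factorization_not_dvd hpos Nat.prime_two) ?_ ?_
  · intro h
    exact ha' (h.trans (card_subgroup_dvd_card _))
  · intro c _ hc
    exact hnum _ (by omega) (by omega)

/-- The case of an odd centraliser. -/
theorem wand_of_odd {r a : ℕ} (hr : r.Prime) (hr2 : r ≠ 2) {x : G} (hx : orderOf x = r)
    (hreal : IsConj x x⁻¹) (ha : 2 ^ a ∣ Nat.card G) (ha' : ¬ 2 ^ (a + 1) ∣ Nat.card G)
    (hb : Odd (Nat.card (centralizer ({x} : Set G)))) (hnum : ¬ r ∣ 2 ^ a - 1) : Wand G := by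
  refine wand_of_real (b := 0) hr hr2 hx hreal ha ha' ?_ ?_
  · rw [zero_add, pow_one, ← even_iff_two_dvd, Nat.not_even_iff_odd]; exact hb
  · intro c hc _
    have : c = 0 := by omega
    subst this
    exact hnum

end Cfsg.Agent.H132
end

-- part: H132/Central
section
set_option linter.all false
open scoped Cfsg.Agent.FastGrp

/-!
# `Wand` for central quotients
-/

set_option autoImplicit false

namespace Cfsg.Agent.H132

open Subgroup

/-- A central element of `2`-power order lies in every Sylow `2`-subgroup. -/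
theorem mem_sylow_of_center {L : Type*} [Group L] [Finite L] {z : L} (hz : z ∈ center L) {k : ℕ} (hk : z ^ 2 ^ k = 1)
    (Q : Sylow 2 L) : z ∈ (Q : Subgroup L) := by
  have : Fact (Nat.Prime 2) := ⟨Nat.prime_two⟩
  have hn : (zpowers z).Normal := by
    refine ⟨fun a ha g => ?_⟩
    have h1 : a ∈ center L := (zpowers_le.2 hz) ha
    have h2 : g * a = a * g := mem_center_iff.1 h1 g
    rw [h2, mul_inv_cancel_right]
    exact ha
  have hp : IsPGroup 2 (zpowers z) := by
    intro y
    obtain ⟨y, hy⟩ := y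
    obtain ⟨j, rfl⟩ := mem_zpowers_iff.1 hy
    refine ⟨k, Subtype.ext ?_⟩
    change (z ^ j) ^ 2 ^ k = 1
    rw [← zpow_natCast, ← zpow_mul, mul_comm, zpow_mul, zpow_natCast, hk, one_zpow]
  have h1 : zpowers z ≤ pCore 2 L := Lib.Cores.le_pCore hn hp
  exact (h1.trans (Lib.Cores.pCore_le_sylow Q)) (mem_zpowers z)

/-- **Central quotients.** -/
theorem Wand.of_central {L G : Type*} [Group L] [Finite L] [Group G] (f : L →* G) (hf : Function.Surjective f)
    (hk : f.ker ≤ center L) (h : Wand L) : Wand G := by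
  have : Fact (Nat.Prime 2) := ⟨Nat.prime_two⟩
  have : Finite G := Finite.of_surjective f hf
  obtain ⟨x, h1, h2, h3⟩ := h
  refine ⟨f x, h1.of_dvd_nat (orderOf_map_dvd f x), ?_, ?_⟩
  · obtain ⟨c, hc⟩ := isConj_iff.1 h2
    exact isConj_iff.2 ⟨f c, by rw [← map_mul, ← map_inv, ← map_mul, hc, map_inv]⟩
  intro R hR
  obtain ⟨Q, rfl⟩ := Sylow.mapSurjective_surjective hf 2 R
  apply h3 Q
  have hle : ∀ q ∈ (Q : Subgroup L), x * q * x⁻¹ ∈ (Q : Subgroup L) := by
    intro q hq
    have h4 : f x * f q * (f x)⁻¹ ∈ ((Sylow.mapSurjective hf Q : Sylow 2 G) : Subgroup G) :=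
      (mem_normalizer_iff.1 hR (f q)).1 ⟨q, hq, rfl⟩
    obtain ⟨q', hq', e⟩ := h4
    have e' : f q' = f x * f q * (f x)⁻¹ := e
    rw [← map_mul, ← map_inv, ← map_mul] at e'
    set z := q'⁻¹ * (x * q * x⁻¹) with hz
    have hzc : z ∈ center L := by
      apply hk
      rw [MonoidHom.mem_ker, hz, map_mul, map_inv, e', inv_mul_cancel]
    have e2 : x * q * x⁻¹ = q' * z := by rw [hz]; group
    -- `z` has 2-power order
    obtain ⟨a, ha⟩ := Q.2 ⟨q, hq⟩
    obtain ⟨b, hb⟩ := Q.2 ⟨q', hq'⟩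
    have ha' : q ^ 2 ^ a = 1 := congrArg Subtype.val ha
    have hb' : q' ^ 2 ^ b = 1 := congrArg Subtype.val hb
    have hcom : Commute q' z := (mem_center_iff.1 hzc q')
    have hz2 : z ^ 2 ^ (a + b) = 1 := by
      have h5 : (x * q * x⁻¹) ^ 2 ^ (a + b) = 1 := by
        rw [conj_pow, pow_add, pow_mul, ha', one_pow, mul_one, mul_inv_cancel]
      rw [e2, hcom.mul_pow, add_comm, pow_add, pow_mul q', hb', one_pow, one_mul] at h5
      rw [add_comm, pow_add]
      exact h5
    rw [e2]
    exact mul_mem hq' (mem_sylow_of_center hzc hz2 Q)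
  have hm : (Q : Subgroup L).map (MulAut.conj x).toMonoidHom ≤ (Q : Subgroup L) := by
    rintro _ ⟨q, hq, rfl⟩
    exact hle q hq
  have hcard : Nat.card ((Q : Subgroup L).map (MulAut.conj x).toMonoidHom) = Nat.card (Q : Subgroup L) :=
    Subgroup.card_map_of_injective (MulAut.conj x).injective
  have heq := Subgroup.eq_of_le_of_card_ge hm hcard.ge
  rw [mem_normalizer_iff]
  intro g
  refine ⟨hle g, fun hg => ?_⟩
  rw [← heq] at hg
  obtain ⟨q, hq, e⟩ := hg
  have : q = g := by
    have e1 : x * q * x⁻¹ = x * g * x⁻¹ := e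
    simpa using e1
  rwa [← this]

end Cfsg.Agent.H132
end

-- part: H805/WandRankOne
section
set_option linter.all false
open scoped Cfsg.Agent.FastGrp

-- part: H805/WandTI
section
/-!
# TI Sylow 2-subgroups permuted doubly transitively: a real element of odd order normalising none
-/

set_option autoImplicit false
set_option linter.unusedSectionVars false

namespace Cfsg.Agent.H805.WandTI

open Subgroup Cfsg.Agent.H132
open scoped Pointwise

variable {G : Type*} [Group G] [Finite G]

theorem mem_of_smul_eq {Q : Sylow 2 G} {u : G} (hu : orderOf u = 2) (h : u • Q = Q) : u ∈ Q := by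
  have h2 : Fact (Nat.Prime 2) := ⟨Nat.prime_two⟩
  have h1 : u ∈ normalizer ((Q : Subgroup G) : Set G) := Sylow.smul_eq_iff_mem_normalizer.1 h
  have h2 : IsPGroup 2 (zpowers u) := IsPGroup.of_card (n := 1) (by rw [Nat.card_zpowers, hu, pow_one])
  have h3 := h2.inf_normalizer_sylow Q
  have h4 : u ∈ zpowers u ⊓ normalizer ((Q : Subgroup G) : Set G) := ⟨mem_zpowers u, h1⟩
  exact (h3.le h4).2

theorem smul_eq_of_mem {Q : Sylow 2 G} {u : G} (h : u ∈ Q) : u • Q = Q :=
  Sylow.smul_eq_iff_mem_normalizer.2 (le_normalizer h)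

theorem mem_smul_iff {Q : Sylow 2 G} {g u : G} : u ∈ g • Q ↔ g⁻¹ * u * g ∈ Q := by
  change u ∈ ((g • Q : Sylow 2 G) : Subgroup G) ↔ _
  rw [Sylow.coe_subgroup_smul, mem_pointwise_smul_iff_inv_smul_mem]
  rw [MulAut.smul_def, MulAut.conj_inv_apply]
  rfl

theorem orderOf_conj (g u : G) : orderOf (g * u * g⁻¹) = orderOf u :=
  orderOf_injective (MulAut.conj g).toMonoidHom (MulAut.conj g).injective u

/-- **TI Sylow 2-subgroups permuted doubly transitively.** -/
theorem wand_of_doublyTransitive (P : Sylow 2 G) (hP : ¬ (P : Subgroup G).Normal)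
    (hTI : ∀ Q R : Sylow 2 G, Q ≠ R → (Q : Subgroup G) ⊓ R = ⊥)
    (h2t : ∀ Q R : Sylow 2 G, Q ≠ P → R ≠ P → ∃ g : G, g • P = P ∧ g • Q = R) : Wand G := by
  classical
  have h2 : Fact (Nat.Prime 2) := ⟨Nat.prime_two⟩
  have hFG : Fintype G := Fintype.ofFinite G
  have hFS : Fintype (Sylow 2 G) := Fintype.ofFinite _
  -- an involution lies in only one Sylow subgroup
  have huniq : ∀ {u : G} {Q R : Sylow 2 G}, orderOf u = 2 → u ∈ Q → u ∈ R → Q = R := by
    intro u Q R hu hQ hR
    by_contra hne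
    have h1 : u ∈ (Q : Subgroup G) ⊓ R := ⟨hQ, hR⟩
    rw [hTI Q R hne, mem_bot] at h1
    rw [h1, orderOf_one] at hu
    omega
  have hfix : ∀ {u : G} {Q : Sylow 2 G}, orderOf u = 2 → (u • Q = Q ↔ u ∈ Q) :=
    fun hu => ⟨mem_of_smul_eq hu, smul_eq_of_mem⟩
  -- a Sylow subgroup different from `P`
  obtain ⟨P', hP'⟩ : ∃ P' : Sylow 2 G, P' ≠ P := by
    by_contra hcon
    push Not at hcon
    apply hP
    have : Subsingleton (Sylow 2 G) := ⟨fun a b => (hcon a).trans (hcon b).symm⟩
    exact Sylow.normal_of_subsingleton P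
  -- an involution in `P`
  have hPne : (P : Subgroup G) ≠ ⊥ := by
    intro hb
    apply hP
    rw [hb]
    infer_instance
  obtain ⟨t, htP, ht⟩ : ∃ t ∈ (P : Subgroup G), orderOf t = 2 := by
    obtain ⟨n, hn⟩ := IsPGroup.iff_card.1 P.2
    have hn0 : n ≠ 0 := by
      rintro rfl
      rw [pow_zero, card_eq_one] at hn
      exact hPne hn
    obtain ⟨s, hs⟩ := exists_prime_orderOf_dvd_card' (G := (P : Subgroup G)) 2
      (by rw [hn]; exact dvd_pow_self 2 hn0)
    exact ⟨s, s.2, (orderOf_coe s).trans hs⟩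
  let B : Sylow 2 G → Finset G := fun Q => Finset.univ.filter fun u => orderOf u = 2 ∧ u ∈ Q
  let A : Sylow 2 G → Sylow 2 G → Finset G := fun Q R =>
    Finset.univ.filter fun u => orderOf u = 2 ∧ u • Q = R
  let Out : Finset G := Finset.univ.filter fun u => orderOf u = 2 ∧ u ∉ P
  have memB : ∀ {Q u}, u ∈ B Q ↔ orderOf u = 2 ∧ u ∈ Q := by
    intro Q u; simp [B]
  have memA : ∀ {Q R u}, u ∈ A Q R ↔ orderOf u = 2 ∧ u • Q = R := by
    intro Q R u; simp [A]
  have memOut : ∀ {u}, u ∈ Out ↔ orderOf u = 2 ∧ u ∉ P := by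
    intro u; simp [Out]
  -- conjugation
  have hBconj : ∀ Q : Sylow 2 G, (B Q).card = (B P).card := by
    intro Q
    obtain ⟨g, rfl⟩ := MulAction.exists_smul_eq G P Q
    symm
    refine Finset.card_bij (fun u _ => g * u * g⁻¹) ?_ ?_ ?_
    · intro u hu
      rw [memB] at hu ⊢
      refine ⟨by rw [orderOf_conj]; exact hu.1, ?_⟩
      rw [mem_smul_iff]
      have : g⁻¹ * (g * u * g⁻¹) * g = u := by group
      rw [this]; exact hu.2
    · intro u _ v _ h
      simpa using h
    · intro v hv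
      rw [memB] at hv
      refine ⟨g⁻¹ * v * g, ?_, by group⟩
      rw [memB]
      refine ⟨?_, mem_smul_iff.1 hv.2⟩
      have := orderOf_conj g⁻¹ v
      rw [inv_inv] at this
      rw [this]; exact hv.1
  have hAconj : ∀ (g : G) (Q R : Sylow 2 G), (A (g • Q) (g • R)).card = (A Q R).card := by
    intro g Q R
    symm
    refine Finset.card_bij (fun u _ => g * u * g⁻¹) ?_ ?_ ?_
    · intro u hu
      rw [memA] at hu ⊢
      refine ⟨by rw [orderOf_conj]; exact hu.1, ?_⟩
      rw [← mul_smul, inv_mul_cancel_right, mul_smul, hu.2]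
    · intro u _ v _ h
      simpa using h
    · intro v hv
      rw [memA] at hv
      refine ⟨g⁻¹ * v * g, ?_, by group⟩
      rw [memA]
      constructor
      · have := orderOf_conj g⁻¹ v
        rw [inv_inv] at this
        rw [this]; exact hv.1
      · rw [mul_smul, mul_smul, hv.2, inv_smul_smul]
  -- first count of the involutions outside `P`
  have hc1 : Out.card = (Finset.univ.erase P).card * (B P).card := by
    have h1 : Out = (Finset.univ.erase P).biUnion B := by
      ext u
      rw [memOut, Finset.mem_biUnion]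
      constructor
      · rintro ⟨hu, huP⟩
        have h3 : IsPGroup 2 (zpowers u) :=
          IsPGroup.of_card (n := 1) (by rw [Nat.card_zpowers, hu, pow_one])
        obtain ⟨Q, hQ⟩ := h3.exists_le_sylow
        have huQ : u ∈ Q := hQ (mem_zpowers u)
        refine ⟨Q, Finset.mem_erase.2 ⟨?_, Finset.mem_univ _⟩, memB.2 ⟨hu, huQ⟩⟩
        rintro rfl
        exact huP huQ
      · rintro ⟨Q, hQ, hu⟩
        rw [memB] at hu
        refine ⟨hu.1, fun huP => (Finset.mem_erase.1 hQ).1 (huniq hu.1 hu.2 huP)⟩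
    rw [h1, Finset.card_biUnion]
    · rw [Finset.sum_congr rfl (fun Q _ => hBconj Q), Finset.sum_const, smul_eq_mul]
    · intro Q _ R _ hQR
      change Disjoint (B Q) (B R)
      rw [Finset.disjoint_left]
      intro u hu hu'
      rw [memB] at hu hu'
      exact hQR (huniq hu.1 hu.2 hu'.2)
  -- second count
  have hApair : ∀ R : Sylow 2 G, R ≠ P → (A P R).card = (A P P').card := by
    intro R hR
    obtain ⟨g, hg1, hg2⟩ := h2t P' R hP' hR
    rw [← hAconj g P P', hg1, hg2]
  have hc2 : Out.card = (Finset.univ.erase P).card * (A P P').card := by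
    rw [Finset.card_eq_sum_card_fiberwise (f := fun u => u • P) (t := Finset.univ.erase P)]
    · rw [← smul_eq_mul, ← Finset.sum_const]
      apply Finset.sum_congr rfl
      intro R hR
      have hR' := (Finset.mem_erase.1 hR).1
      rw [← hApair R hR']
      congr 1
      ext u
      rw [Finset.mem_filter, memOut, memA]
      constructor
      · rintro ⟨⟨h3, -⟩, h4⟩
        exact ⟨h3, h4⟩
      · rintro ⟨h3, h4⟩
        refine ⟨⟨h3, fun h5 => hR' ?_⟩, h4⟩
        rw [← h4, smul_eq_of_mem h5]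
    · intro u hu
      have hu' := memOut.1 hu
      exact Finset.mem_coe.2 (Finset.mem_erase.2 ⟨fun h => hu'.2 (mem_of_smul_eq hu'.1 h), Finset.mem_univ _⟩)
  have hpos : 0 < (Finset.univ.erase P).card :=
    Finset.card_pos.2 ⟨P', Finset.mem_erase.2 ⟨hP', Finset.mem_univ _⟩⟩
  have hc : (A P P').card = (B P).card := by
    apply Nat.eq_of_mul_eq_mul_left hpos
    rw [← hc1, ← hc2]
  have hAall : ∀ Q R : Sylow 2 G, Q ≠ R → (A Q R).card = (B P).card := by
    intro Q R hQR
    obtain ⟨g, hg⟩ := MulAction.exists_smul_eq G Q P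
    rw [← hAconj g Q R, hg, hApair, hc]
    intro h
    rw [← hg] at h
    exact hQR (smul_left_cancel g h).symm
  -- the bad involutions
  let Bad : Finset G := (Finset.univ.erase P).biUnion fun Q => (A Q (t • Q)).erase t
  have hBad : Bad.card ≤ (Finset.univ.erase P).card * ((B P).card - 1) := by
    refine Finset.card_biUnion_le_card_mul _ _ _ ?_
    intro Q hQ
    have hQ' := (Finset.mem_erase.1 hQ).1
    have h3 : Q ≠ t • Q := by
      intro h
      exact hQ' (huniq ht (mem_of_smul_eq ht h.symm) htP)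
    rw [Finset.card_erase_of_mem (memA.2 ⟨ht, rfl⟩), hAall _ _ h3]
  have hBpos : 0 < (B P).card := Finset.card_pos.2 ⟨t, memB.2 ⟨ht, htP⟩⟩
  have hlt : Bad.card < Out.card := by
    rw [hc1]
    refine lt_of_le_of_lt hBad ?_
    exact Nat.mul_lt_mul_of_pos_left (by omega) hpos
  obtain ⟨u, hu, huB⟩ := Finset.exists_mem_notMem_of_card_lt_card hlt
  rw [memOut] at hu
  obtain ⟨huo, huP⟩ := hu
  have htt : t * t = 1 := by rw [← pow_two, ← ht]; exact pow_orderOf_eq_one t
  have huu : u * u = 1 := by rw [← pow_two, ← huo]; exact pow_orderOf_eq_one u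
  have hti : t⁻¹ = t := inv_eq_of_mul_eq_one_right htt
  have hui : u⁻¹ = u := inv_eq_of_mul_eq_one_right huu
  have hxinv : (t * u)⁻¹ = u * t := by rw [mul_inv_rev, hti, hui]
  refine ⟨t * u, ?_, ?_, ?_⟩
  · -- odd order
    by_contra hev
    rw [Nat.not_odd_iff_even, even_iff_two_dvd] at hev
    obtain ⟨k, hk⟩ := hev
    have hx0 : 0 < orderOf (t * u) := orderOf_pos _
    have hz : orderOf ((t * u) ^ k) = 2 := by
      rw [orderOf_pow_of_dvd (by omega) ⟨2, by rw [hk]; ring⟩, hk]
      exact Nat.mul_div_cancel _ (by omega)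
    have hzz : ((t * u) ^ k)⁻¹ = (t * u) ^ k := by
      apply inv_eq_of_mul_eq_one_right
      rw [← pow_two, ← hz]; exact pow_orderOf_eq_one _
    -- `z` commutes with `t` and with `u`
    have hct : t * (t * u) ^ k * t⁻¹ = (t * u) ^ k := by
      rw [← conj_pow]
      have : t * (t * u) * t⁻¹ = (t * u)⁻¹ := by
        rw [hxinv, hti, ← mul_assoc, htt, one_mul]
      rw [this, inv_pow, hzz]
    have hcu : u * (t * u) ^ k * u⁻¹ = (t * u) ^ k := by
      rw [← conj_pow]
      have : u * (t * u) * u⁻¹ = (t * u)⁻¹ := by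
        rw [hxinv, ← mul_assoc, mul_inv_cancel_right]
      rw [this, inv_pow, hzz]
    set z := (t * u) ^ k with hzdef
    have hin : ∀ (w : G) (Q : Sylow 2 G), orderOf w = 2 → w ∈ Q → w * z * w⁻¹ = z → z ∈ Q := by
      intro w Q hw hwQ hwz
      apply mem_of_smul_eq hz
      apply huniq hw _ hwQ
      rw [mem_smul_iff]
      have : z⁻¹ * w * z = w := by
        have h5 : w * z = z * w := mul_inv_eq_iff_eq_mul.1 hwz
        rw [mul_assoc, h5, inv_mul_cancel_left]
      rw [this]
      exact hwQ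
    have h3 : IsPGroup 2 (zpowers u) :=
      IsPGroup.of_card (n := 1) (by rw [Nat.card_zpowers, huo, pow_one])
    obtain ⟨Q, hQ⟩ := h3.exists_le_sylow
    have huQ : u ∈ Q := hQ (mem_zpowers u)
    have e := huniq hz (hin t P ht htP hct) (hin u Q huo huQ hcu)
    exact huP (e ▸ huQ)
  · refine isConj_iff.2 ⟨t, ?_⟩
    rw [hxinv, hti, ← mul_assoc, htt, one_mul]
  · intro Q hQ
    have h1 : (t * u) • Q = Q := Sylow.smul_eq_iff_mem_normalizer.2 hQ
    have h3 : u • Q = t • Q := by
      rw [mul_smul] at h1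
      have h4 := congrArg (fun R => t⁻¹ • R) h1
      simp only [inv_smul_smul] at h4
      rw [h4, hti]
    have hQP : Q ≠ P := by
      rintro rfl
      rw [smul_eq_of_mem htP] at h3
      exact huP (mem_of_smul_eq huo h3)
    apply huB
    refine Finset.mem_biUnion.2 ⟨Q, Finset.mem_erase.2 ⟨hQP, Finset.mem_univ _⟩, ?_⟩
    refine Finset.mem_erase.2 ⟨?_, memA.2 ⟨huo, h3⟩⟩
    rintro rfl
    exact huP htP

/-- The version with `P` transitive on the other Sylow subgroups. -/
theorem wand_rankOne (P : Sylow 2 G) (hP : ¬ (P : Subgroup G).Normal)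
    (hTI : ∀ Q R : Sylow 2 G, Q ≠ R → (Q : Subgroup G) ⊓ R = ⊥)
    (hreg : ∀ Q R : Sylow 2 G, Q ≠ P → R ≠ P → ∃ u ∈ P, u • Q = R) : Wand G := by
  apply wand_of_doublyTransitive P hP hTI
  intro Q R hQ hR
  obtain ⟨u, hu, h⟩ := hreg Q R hQ hR
  exact ⟨u, smul_eq_of_mem hu, h⟩

end Cfsg.Agent.H805.WandTI
end

-- part: H805/WandRankOne
section
/-!
# Split (B, N)-pairs of rank one in characteristic two
-/

set_option autoImplicit false
set_option linter.unusedSectionVars false

namespace Cfsg.Agent.H805.WandRankOne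

open Cfsg Subgroup Cfsg.Agent.H132 Cfsg.Agent.H805.WandTI Cfsg.Agent.Schreier.BNSch

variable {K : Type*} [Group K] [Finite K] {P : Cfsg.BNPair K} {p : ℕ} {U : Subgroup K}

/-- `U` is a Sylow subgroup. -/
theorem eq_of_isPGroup [hp : Fact p.Prime] (h : FixBN.Split P p U) {Q : Subgroup K} (hQ : IsPGroup p Q)
    (hU : U ≤ Q) : Q = U := by
  by_contra hne
  have hlt : U < Q := lt_of_le_of_ne hU fun h => hne h.symm
  -- normalisers grow
  have : Finite Q := inferInstance
  have hnil : Group.IsNilpotent Q := hQ.isNilpotent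
  have h1 : U.subgroupOf Q < normalizer ((U.subgroupOf Q : Subgroup Q) : Set Q) := by
    apply Group.normalizerCondition_of_isNilpotent
    rw [lt_top_iff_ne_top]
    intro h2
    exact hlt.not_ge (subgroupOf_eq_top.1 h2)
  obtain ⟨x, hx, hx'⟩ := SetLike.exists_of_lt h1
  have h3 : (x : K) ∈ normalizer (U : Set K) := by
    rw [mem_normalizer_iff] at hx ⊢
    have key : ∀ z : Q, z ∈ normalizer ((U.subgroupOf Q : Subgroup Q) : Set Q) → ∀ y ∈ U,
        (z : K) * y * (z : K)⁻¹ ∈ U := by
      intro z hz y hy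
      exact (mem_normalizer_iff.1 hz ⟨y, hU hy⟩).1 hy
    intro y
    refine ⟨key x (mem_normalizer_iff.2 hx) y, fun hy => ?_⟩
    have h4 := key x⁻¹ (inv_mem (mem_normalizer_iff.2 hx)) _ hy
    have h5 : ((x⁻¹ : Q) : K) = (x : K)⁻¹ := rfl
    rwa [h5, show (x : K)⁻¹ * ((x : K) * y * (x : K)⁻¹) * (x : K)⁻¹⁻¹ = y by group] at h4
  rw [h.normalizer_eq] at h3
  obtain ⟨k, hk⟩ := hQ x
  have h4 : (x : K) ^ p ^ k = 1 := congrArg Subtype.val hk
  exact hx' (h.mem_of_pow h3 h4)

/-- The intersection at the node is trivial if the minimal parabolic is the whole group. -/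
theorem node_eq_bot (h : FixBN.Split P p U) {s : K} (htop : P.parabolic {s} = ⊤)
    {V : Subgroup K} (hV : Node P U s V) : V = ⊥ := by
  have hnor : V.Normal := by
    constructor
    intro v hv g
    have := hV.conj_mem (g := g⁻¹) (by rw [htop]; trivial) hv
    rwa [inv_inv] at this
  have h1 : V ≤ P.B.normalCore := Subgroup.normal_le_normalCore.2 (hV.le.trans h.le)
  rw [h.core] at h1
  exact le_bot_iff.1 h1

theorem parabolic_eq_top {s : K} (hS : P.S = {s}) : P.parabolic {s} = ⊤ := by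
  rw [eq_top_iff, ← P.sup_eq_top]
  unfold BNPair.parabolic
  refine sup_le le_sup_left ?_
  rw [← P.closure_sup, hS]
  exact sup_le le_sup_right (inf_le_left.trans le_sup_left)

/-- **Split (B, N)-pairs of rank one, characteristic two.** -/
theorem wand_of_split_of_top (h : FixBN.Split P 2 U) {s : K} (hs : s ∈ P.S)
    (htop : P.parabolic {s} = ⊤) : Wand K := by
  have h2 : Fact (Nat.Prime 2) := ⟨Nat.prime_two⟩
  obtain ⟨V, hV⟩ := h.node s hs
  have hV1 := node_eq_bot h htop hV
  obtain ⟨P₀, hP₀⟩ := h.isP.exists_le_sylow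
  have hPU : (P₀ : Subgroup K) = U := eq_of_isPGroup h P₀.isPGroup' hP₀
  have hB : ∀ g : K, g ∈ P.B ↔ g • P₀ = P₀ := by
    intro g
    rw [Sylow.smul_eq_iff_mem_normalizer]
    change _ ↔ g ∈ normalizer ((P₀ : Subgroup K) : Set K)
    rw [hPU, h.normalizer_eq]
  have hsB : s ∉ P.B := not_mem_B P hs
  -- the other Sylow subgroups
  have hoth : ∀ Q : Sylow 2 K, Q ≠ P₀ → ∃ u ∈ U, Q = (u * s) • P₀ := by
    intro Q hQ
    obtain ⟨g, rfl⟩ := MulAction.exists_smul_eq K P₀ Q
    have hg : g ∉ P.B := fun hg => hQ ((hB g).1 hg)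
    obtain ⟨u, hu, b, hb, rfl⟩ := exists_of_mem_parabolic P h.le h.cover hs (g := g)
      (by rw [htop]; trivial) hg
    exact ⟨u, hu, by rw [mul_smul, (hB b).1 hb]⟩
  apply wand_rankOne P₀
  · intro hn
    apply hsB
    rw [hB, Sylow.smul_eq_iff_mem_normalizer]
    change s ∈ normalizer ((P₀ : Subgroup K) : Set K)
    rw [normalizer_eq_top]
    trivial
  · intro Q R hQR
    rw [eq_bot_iff]
    intro y hy
    obtain ⟨hyQ, hyR⟩ := mem_inf.1 hy
    obtain ⟨g, hg⟩ := MulAction.exists_smul_eq K Q P₀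
    have hR' : g • R ≠ P₀ := by
      rw [← hg]
      intro h
      exact hQR (smul_left_cancel g h).symm
    obtain ⟨u, hu, hR⟩ := hoth _ hR'
    have h1 : g * y * g⁻¹ ∈ P₀ := by
      rw [← hg, mem_smul_iff]
      have : g⁻¹ * (g * y * g⁻¹) * g = y := by group
      rw [this]; exact hyQ
    have h3 : g * y * g⁻¹ ∈ (u * s) • P₀ := by
      rw [← hR, mem_smul_iff]
      have : g⁻¹ * (g * y * g⁻¹) * g = y := by group
      rw [this]; exact hyR
    rw [mem_smul_iff] at h3
    have h1' : g * y * g⁻¹ ∈ U := by rw [← hPU]; exact h1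
    have h3' : (u * s)⁻¹ * (g * y * g⁻¹) * (u * s) ∈ U := by rw [← hPU]; exact h3
    have h4 : u⁻¹ * (g * y * g⁻¹) * u ∈ U := U.mul_mem (U.mul_mem (U.inv_mem hu) h1') hu
    have h5 := hV.stab _ h4 (h.le (by
      have : s⁻¹ * (u⁻¹ * (g * y * g⁻¹) * u) * s = (u * s)⁻¹ * (g * y * g⁻¹) * (u * s) := by group
      rw [this]; exact h3'))
    rw [hV1, mem_bot] at h5
    rw [mem_bot]
    have h6 : y = g⁻¹ * (u * (u⁻¹ * (g * y * g⁻¹) * u) * u⁻¹) * g := by group
    rw [h6, h5]
    group
  · intro Q R hQ hR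
    obtain ⟨u, hu, rfl⟩ := hoth Q hQ
    obtain ⟨v, hv, rfl⟩ := hoth R hR
    refine ⟨v * u⁻¹, ?_, ?_⟩
    · change v * u⁻¹ ∈ (P₀ : Subgroup K)
      rw [hPU]
      exact U.mul_mem hv (U.inv_mem hu)
    · rw [← mul_smul]
      congr 1
      group

theorem wand_of_split (h : FixBN.Split P 2 U) {s : K} (hS : P.S = {s}) : Wand K :=
  wand_of_split_of_top h (s := s) (by rw [hS]; rfl) (parabolic_eq_top hS)

end Cfsg.Agent.H805.WandRankOne
end
end

-- part: H446/WandBN
section
set_option linter.all false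
open scoped Cfsg.Agent.FastGrp

/-!
# `Wand` for groups with a split (B, N)-pair of characteristic 2 (S4011, helper446)

* `exists_decomp`, `mem_B_of_conj` : the projection of a chamber to the minimal parabolic `P_s`;
* `wand_rankTwo` : two simple reflections, induction on the group order;
* `wand_of_split`, `wand_of_hasSplit` : any rank (rank one: helper805).
-/

set_option autoImplicit false

namespace Cfsg.Agent.H446.WandBN

open Subgroup Cfsg Cfsg.Agent.H132 Cfsg.Agent.FixBN Cfsg.Agent.LieExceptional.BNPairCore Cfsg.Agent.Schreier.BNSch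

section BN

variable {G : Type*} [Group G] {P : Cfsg.BNPair G}

/-- `g = p n b`, `p ∈ P_s`, `n` the shortest element of `{n, s n}`. -/
theorem exists_decomp {s : G} (hs : s ∈ P.S) (g : G) :
    ∃ p ∈ P.parabolic {s}, ∃ n ∈ P.N, len P n ≤ len P (s * n) ∧ ∃ b ∈ P.B, g = p * n * b := by
  obtain ⟨n, hn, hg⟩ := bruhat (P := P) g
  obtain ⟨b₁, h₁, b₂, h₂, rfl⟩ := mem_C.1 hg
  have hB : P.B ≤ P.parabolic {s} := le_sup_left
  have hsP : s ∈ P.parabolic {s} := (le_sup_right : closure {s} ≤ _) (subset_closure rfl)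
  rcases le_total (len P n) (len P (s * n)) with h | h
  · exact ⟨b₁, hB h₁, n, hn, h, b₂, h₂, rfl⟩
  · refine ⟨b₁ * s⁻¹, mul_mem (hB h₁) (inv_mem hsP), s * n, mul_mem (mem_N hs) hn, ?_, b₂, h₂, by group⟩
    rw [len_congr (rel_sq_mul hs hn)]
    exact h

/-- `P_s ∩ n B n⁻¹ ≤ B` if `n` is shorter than `s n`. -/
theorem mem_B_of_conj {s n b : G} (hs : s ∈ P.S) (hn : n ∈ P.N) (hl : len P n ≤ len P (s * n)) (hb : b ∈ P.B)
    (h : n * b * n⁻¹ ∈ P.parabolic {s}) : n * b * n⁻¹ ∈ P.B := by
  rcases mem_parabolic_singleton P hs h with h | ⟨b₁, h₁, b₂, h₂, e⟩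
  · exact h
  · exfalso
    have h3 : n * b = b₁ * (s * b₂ * n) := by
      have : n * b = n * b * n⁻¹ * n := by group
      rw [this, e]; group
    have h4 : n * b ∈ C P (s * n) := by
      rw [h3]
      exact mul_mem_C_left h₁ (mul_mem_C_of_le hs hn h₂ hl)
    have h5 : n * b ∈ C P n := mul_mem_C_right hb (self_mem_C n)
    exact not_C_mul_left_eq hs hn (C_eq_of_mem_mem h4 h5)

/-- An element of `P_s` fixing a chamber fixes a chamber of the residue of `P_s`. -/
theorem exists_conj_mem {s g y : G} (hs : s ∈ P.S) (hy : y ∈ P.parabolic {s}) (hg : g⁻¹ * y * g ∈ P.B) :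
    ∃ p ∈ P.parabolic {s}, p⁻¹ * y * p ∈ P.B := by
  obtain ⟨p, hp, n, hn, hl, b, hb, rfl⟩ := exists_decomp hs g
  refine ⟨p, hp, ?_⟩
  have e : p⁻¹ * y * p = n * (b * ((p * n * b)⁻¹ * y * (p * n * b)) * b⁻¹) * n⁻¹ := by group
  have hb' : b * ((p * n * b)⁻¹ * y * (p * n * b)) * b⁻¹ ∈ P.B := mul_mem (mul_mem hb hg) (inv_mem hb)
  rw [e]
  apply mem_B_of_conj hs hn hl hb'
  rw [← e]
  exact mul_mem (mul_mem (inv_mem hp) hy) hp

/-- `P_s` is proper if there are two simple reflections. -/
theorem parabolic_ne_top {s s' : G} (hs : s ∈ P.S) (hs' : s' ∈ P.S) (hne : s' ≠ s) : P.parabolic {s} ≠ ⊤ := by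
  intro h
  have h1 : s' ∈ P.parabolic {s} := by rw [h]; exact mem_top _
  rw [mem_parabolic_gen_iff (Set.singleton_subset_iff.2 hs) hs'] at h1
  exact hne h1

end BN

section Syl

variable {G : Type*} [Group G] [Finite G] {P : Cfsg.BNPair G} {p : ℕ} {U : Subgroup G}

/-- A subgroup `M` containing `B`: `U` is a Sylow subgroup of `M`. -/
theorem not_dvd_index [hp : Fact p.Prime] (h : Split P p U) : ¬ p ∣ U.index := by
  obtain ⟨Q, hQ⟩ := h.isP.exists_le_sylow
  have hQU : (Q : Subgroup G) = U := by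
    by_contra hne
    have hlt : U < Q := lt_of_le_of_ne hQ (Ne.symm hne)
    have hnil : Group.IsNilpotent Q := Q.2.isNilpotent
    have hnc := Group.normalizerCondition_of_isNilpotent (G := Q)
    have h1 : U.subgroupOf Q < ⊤ := by
      rw [lt_top_iff_ne_top]
      intro h2
      rw [subgroupOf_eq_top] at h2
      exact absurd (lt_of_lt_of_le hlt h2) (lt_irrefl _)
    obtain ⟨x, hx, hxU⟩ := SetLike.exists_of_lt (hnc _ h1)
    apply hxU
    rw [mem_subgroupOf]
    have hxN : (x : G) ∈ normalizer (U : Set G) := by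
      rw [mem_normalizer_iff]
      intro u
      rw [mem_normalizer_iff] at hx
      constructor
      · intro hu
        have := (hx ⟨u, hQ hu⟩).1 (mem_subgroupOf.2 hu)
        exact mem_subgroupOf.1 this
      · intro hu
        have huQ : u ∈ (Q : Subgroup G) := by
          have h3 := hQ hu
          have h4 := mul_mem (mul_mem (inv_mem x.2) h3) x.2
          have h5 : (x : G)⁻¹ * (x * u * (x : G)⁻¹) * x = u := by group
          rwa [h5] at h4
        exact mem_subgroupOf.1 ((hx ⟨u, huQ⟩).2 (mem_subgroupOf.2 hu))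
    rw [h.normalizer_eq] at hxN
    obtain ⟨n, hn⟩ := (Q.2 x)
    have h6 : (x : G) ^ p ^ n = 1 := by
      have := congrArg Subtype.val hn
      exact this
    exact h.mem_of_pow hxN h6
  rw [← hQU]
  exact Q.not_dvd_index

end Syl

universe u

variable {G : Type u} [Group G] [Finite G] {P : Cfsg.BNPair G} {U : Subgroup G}

/-- **At least two simple reflections.** -/
theorem wand_rankTwo (h : Split P 2 U) {s s' : G} (hs : s ∈ P.S) (hs' : s' ∈ P.S) (hne : s' ≠ s)
    (IH : ∀ (H : Type u) [Group H] [Finite H], Nat.card H < Nat.card G → ∀ Q : Sylow 2 H,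
      ¬ (Q : Subgroup H).Normal → Wand H) : Wand G := by
  have hp2 : Fact (Nat.Prime 2) := ⟨Nat.prime_two⟩
  have hidx := not_dvd_index h
  let U₀ : Sylow 2 G := h.isP.toSylow hidx
  have hU₀ : (U₀ : Subgroup G) = U := rfl
  have hUM : U ≤ P.parabolic {s} := h.le.trans le_sup_left
  have hBM : P.B ≤ P.parabolic {s} := le_sup_left
  have hsM : s ∈ P.parabolic {s} := (le_sup_right : closure {s} ≤ _) (subset_closure rfl)
  -- `U` as a Sylow subgroup of `P_s`
  have hpM : IsPGroup 2 (U.subgroupOf (P.parabolic {s})) := h.isP.comap_of_injective _ (subtype_injective _)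
  have hiM : ¬ 2 ∣ (U.subgroupOf (P.parabolic {s})).index := by
    intro h2
    apply hidx
    have h3 : U.relIndex (P.parabolic {s}) * (P.parabolic {s}).index = U.index := relIndex_mul_index hUM
    rw [← h3]
    exact Dvd.dvd.mul_right h2 _
  let U₁ : Sylow 2 (P.parabolic {s}) := hpM.toSylow hiM
  have hU₁ : (U₁ : Subgroup (P.parabolic {s})) = U.subgroupOf (P.parabolic {s}) := rfl
  have hnn : ¬ (U₁ : Subgroup (P.parabolic {s})).Normal := by
    intro hn
    apply LieExceptional.BNPairCore.not_mem_B (P := P) hs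
    rw [← h.normalizer_eq, mem_normalizer_iff]
    intro u
    constructor
    · intro hu
      exact mem_subgroupOf.1 (hn.conj_mem ⟨u, hUM hu⟩ (mem_subgroupOf.2 hu) ⟨s, hsM⟩)
    · intro hu
      have h4 := mem_subgroupOf.1 (hn.conj_mem ⟨_, hUM hu⟩ (mem_subgroupOf.2 hu) ⟨s, hsM⟩⁻¹)
      have h5 : s⁻¹ * (s * u * s⁻¹) * s⁻¹⁻¹ = u := by group
      rw [← h5]
      exact h4
  obtain ⟨y, hyo, hyr, hyN⟩ := IH (P.parabolic {s}) (card_lt_of_ne_top (parabolic_ne_top hs hs' hne)) U₁ hnn
  refine ⟨y, by rwa [orderOf_coe], ?_, ?_⟩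
  · obtain ⟨c, hc⟩ := isConj_iff.1 hyr
    exact isConj_iff.2 ⟨c, by simpa using congrArg Subtype.val hc⟩
  · intro Q hQ
    -- `Q = g U g⁻¹`
    obtain ⟨g, hg⟩ := MulAction.exists_smul_eq G U₀ Q
    have hyg : g⁻¹ * (y : G) * g ∈ P.B := by
      rw [← h.normalizer_eq, mem_normalizer_iff]
      intro u
      have h1 := (mem_normalizer_iff.1 hQ) (g * u * g⁻¹)
      rw [← hg, Sylow.coe_subgroup_smul, mem_pointwise_smul_iff_inv_smul_mem,
        mem_pointwise_smul_iff_inv_smul_mem] at h1
      simp only [MulAut.smul_def, MulAut.conj_inv_apply] at h1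
      have e1 : g⁻¹ * (g * u * g⁻¹) * g = u := by group
      have e2 : g⁻¹ * ((y : G) * (g * u * g⁻¹) * (y : G)⁻¹) * g = g⁻¹ * y * g * u * (g⁻¹ * y * g)⁻¹ := by group
      rw [e1, e2] at h1
      exact h1
    obtain ⟨q, hq, hqB⟩ := exists_conj_mem hs y.2 hyg
    apply hyN ((⟨q, hq⟩ : P.parabolic {s}) • U₁)
    rw [mem_normalizer_iff]
    intro u
    rw [Sylow.coe_subgroup_smul, mem_pointwise_smul_iff_inv_smul_mem, mem_pointwise_smul_iff_inv_smul_mem]
    simp only [MulAut.smul_def, MulAut.conj_inv_apply]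
    rw [hU₁, mem_subgroupOf, mem_subgroupOf]
    rw [← h.normalizer_eq, mem_normalizer_iff] at hqB
    have h1 := hqB (q⁻¹ * (u : G) * q)
    have e2 : q⁻¹ * (y : G) * q * (q⁻¹ * (u : G) * q) * (q⁻¹ * (y : G) * q)⁻¹ = q⁻¹ * (y * u * (y : G)⁻¹) * q := by
      group
    rw [e2] at h1
    exact h1

theorem wand_of_split (h : Split P 2 U) (hne : P.S.Nonempty)
    (IH : ∀ (H : Type u) [Group H] [Finite H], Nat.card H < Nat.card G → ∀ Q : Sylow 2 H,
      ¬ (Q : Subgroup H).Normal → Wand H) : Wand G := by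
  obtain ⟨s, hs⟩ := hne
  by_cases h1 : ∃ s' ∈ P.S, s' ≠ s
  · obtain ⟨s', hs', hne⟩ := h1
    exact wand_rankTwo h hs hs' hne IH
  · push Not at h1
    have h2 : P.S = {s} := Set.eq_singleton_iff_unique_mem.2 ⟨hs, h1⟩
    exact H805.WandRankOne.wand_of_split h h2

/-- **Groups with a split (B, N)-pair of characteristic 2.** -/
theorem wand_of_hasSplit (h : HasSplit 2 G)
    (IH : ∀ (H : Type u) [Group H] [Finite H], Nat.card H < Nat.card G → ∀ Q : Sylow 2 H,
      ¬ (Q : Subgroup H).Normal → Wand H) : Wand G := by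
  obtain ⟨P, U, hne, hs⟩ := h
  exact wand_of_split hs hne IH

end Cfsg.Agent.H446.WandBN
end
end
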