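import Cfsg.Agent.H132.Central_m3
import Cfsg.Agent.S2934
import Cfsg.Agent.Nodes.Reps
import Cfsg.Agent.Nodes.CardSup_m3
import Cfsg.Agent.H897.T5Conn
import Cfsg.Agent.Nodes.Frame
import Cfsg.Agent.Cit.LongConj
import Cfsg.Agent.S0276
import Cfsg.Agent.FastGrp
import Cfsg.Agent.Prune
set_option linter.all false
prune_inst 0x7f00000000000000000000000000000000000000000000000000000000000000000000000000000000000000000000000000000000000000000000000000000000000000000000000000000000000000003fffffffffffffffffffffffffffbeffbdffffffff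
open scoped Cfsg.Agent.FastGrp

-- part: H132/Frm
section
/-!
# Root groups and normalisers of Sylow 2-subgroups (the abstract argument)

`Frm p X Xn V z` : `X` a `p`-subgroup of `G` (a long root group), `Xn` an opposite one, `V ≥ X` the unipotent radical of
`N(X)`, `z` the involution of `⟨X, Xn⟩ ≅ SL₂(q)`.

* `Frm.wand` : if some `1 ≠ u ∈ X` is inverted by an element normalising `⟨X, Xn⟩` then `Wand G`.
-/

set_option autoImplicit false
set_option linter.unusedSectionVars false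

namespace Cfsg.Agent.H132

open Subgroup Cfsg.Agent.Nodes.Reps

variable {G : Type*} [Group G]

/-- The data: root group `X`, opposite root group `Xn`, radical `V`, involution `z`. -/
structure Frm (p : ℕ) (X Xn V : Subgroup G) (z : G) : Prop where
  pX : IsPGroup p X
  pV : IsPGroup p V
  comm : ∀ v ∈ V, ∀ x ∈ X, v * x = x * v
  ti : ∀ g : G, (∃ a ∈ X, a ≠ 1 ∧ g * a * g⁻¹ ∈ X) → cj g X = X
  tri : ∀ g : G, cj g X = X ∨ IsPGroup p ↥(X ⊔ cj g X) ∨ ∃ v ∈ V, cj g X = cj v Xn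
  vz : ∀ v ∈ V, v * z * v⁻¹ * z⁻¹ ∈ V
  cz : ∀ v ∈ V, v * z = z * v → v ∈ X
  z_mem : z ∈ X ⊔ Xn
  z_sq : z * z = 1
  z_ne : z ≠ 1
  uniq : ∀ c ∈ X ⊔ Xn, c * c = 1 → c ≠ 1 → c = z

/-- a `2`-element which is a `p`-element, `p` odd, is trivial -/
theorem eq_one_of_two_of_p {p : ℕ} [Fact p.Prime] (hp : p ≠ 2) {S P : Subgroup G} (hS : IsPGroup 2 S)
    (hP : IsPGroup p P) {a : G} (h1 : a ∈ S) (h2 : a ∈ P) : a = 1 := by
  have h3 := IsPGroup.disjoint_of_ne 2 p (Ne.symm hp) S P hS hP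
  exact (Subgroup.disjoint_def.1 h3) h1 h2

/-- A nontrivial element of a `2`-group has an involution among its powers. -/
theorem exists_inv_pow {S : Subgroup G} (hS : IsPGroup 2 S) {a : G} (h1 : a ∈ S) (h2 : a ≠ 1) :
    ∃ m : ℕ, a ^ m * a ^ m = 1 ∧ a ^ m ≠ 1 := by
  obtain ⟨k, hk⟩ := (IsPGroup.iff_orderOf.1 hS) ⟨a, h1⟩
  rw [← orderOf_coe] at hk
  change orderOf a = 2 ^ k at hk
  rcases k with _ | k
  · exfalso
    rw [pow_zero] at hk
    exact h2 (orderOf_eq_one_iff.1 hk)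
  · refine ⟨2 ^ k, ?_, ?_⟩
    · rw [← pow_add, ← two_mul, ← pow_succ', ← hk, pow_orderOf_eq_one]
    · intro h3
      have h4 := orderOf_dvd_of_pow_eq_one h3
      rw [hk] at h4
      have h5 := Nat.le_of_dvd (by positivity) h4
      rw [pow_succ] at h5
      have : 0 < 2 ^ k := by positivity
      omega

/-- In a `2`-group with `z` the only involution, an element other than `1`, `z` has a power with square `z`. -/
theorem exists_sqrt_pow {S : Subgroup G} (hS : IsPGroup 2 S) {z : G} (hz : ∀ c ∈ S, c * c = 1 → c ≠ 1 → c = z) {a : G}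
    (h1 : a ∈ S) (h2 : a ≠ 1) (h3 : a ≠ z) : ∃ m : ℕ, a ^ m * a ^ m = z := by
  obtain ⟨k, hk⟩ := (IsPGroup.iff_orderOf.1 hS) ⟨a, h1⟩
  rw [← orderOf_coe] at hk
  change orderOf a = 2 ^ k at hk
  rcases k with _ | _ | k
  · exfalso
    rw [pow_zero] at hk
    exact h2 (orderOf_eq_one_iff.1 hk)
  · exfalso
    apply h3
    apply hz a h1 _ h2
    rw [← pow_two, show (2 : ℕ) = 2 ^ (0 + 1) by norm_num, ← hk, pow_orderOf_eq_one]
  · refine ⟨2 ^ k, ?_⟩
    have e : a ^ 2 ^ k * a ^ 2 ^ k = a ^ 2 ^ (k + 1) := by rw [← pow_add, ← two_mul, ← pow_succ']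
    rw [e]
    apply hz _ (pow_mem h1 _)
    · rw [← pow_add, ← two_mul, ← pow_succ', ← hk, pow_orderOf_eq_one]
    · intro h3
      have h4 := orderOf_dvd_of_pow_eq_one h3
      rw [hk] at h4
      have h5 := Nat.le_of_dvd (by positivity) h4
      rw [pow_succ (n := k + 1)] at h5
      have : 0 < 2 ^ (k + 1) := by positivity
      omega

/-- An element of odd prime power order acting non-trivially on a `2`-group with at most one involution. -/
theorem quat_of_norm [Finite G] {p : ℕ} [hpp : Fact p.Prime] (hp2 : p ≠ 2) {T : Subgroup G} (hT : IsPGroup 2 T) {z : G}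
    (huniq : ∀ c ∈ T, c * c = 1 → c ≠ 1 → c = z) {u : G} (hu : u ∈ normalizer (T : Set G))
    (hup : IsPGroup p (zpowers u)) (hne : ¬ ∀ c ∈ T, u * c = c * u) :
    p = 3 ∧ Nat.card T = 8 ∧ ∀ c ∈ T, u * c = c * u → c * c = 1 := by
  obtain ⟨k, hk⟩ := (IsPGroup.iff_orderOf.1 hup) ⟨u, mem_zpowers u⟩
  rw [← orderOf_coe] at hk
  change orderOf u = p ^ k at hk
  have hodd : Odd (p ^ k) := (hpp.out.odd_of_ne_two hp2).pow
  set φ : MulAut T := T.normalizerMonoidHom ⟨u, hu⟩ with hφ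
  have hφa : ∀ c : T, ((φ c : T) : G) = u * c * u⁻¹ := fun c => rfl
  have hφk : φ ^ (p ^ k) = 1 := by
    rw [hφ, ← map_pow, ← hk]
    have : (⟨u, hu⟩ : ↥(normalizer (T : Set G))) ^ orderOf u = 1 := Subtype.ext (pow_orderOf_eq_one u)
    rw [this, map_one]
  have hφ1 : φ ≠ 1 := by
    intro h1
    apply hne
    intro c hc
    have h2 := hφa ⟨c, hc⟩
    rw [h1] at h2
    change c = u * c * u⁻¹ at h2
    calc u * c = (u * c * u⁻¹) * u := by group
      _ = c * u := by rw [← h2]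
  have huniq' : ∀ x y : T, orderOf x = 2 → orderOf y = 2 → x = y := by
    have key : ∀ x : T, orderOf x = 2 → (x : G) = z := by
      intro x hx
      apply huniq _ x.2
      · have h1 : x ^ 2 = 1 := by rw [← hx]; exact pow_orderOf_eq_one x
        have h2 := congrArg (Subtype.val) h1
        rw [pow_two] at h2
        exact h2
      · intro h1
        have h2 : x = 1 := Subtype.ext h1
        rw [h2, orderOf_one] at hx
        omega
    intro x y hx hy
    exact Subtype.ext ((key x hx).trans (key y hy).symm)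
  obtain ⟨e⟩ := S2934.quaternion_of_ne hT huniq' φ hodd hφk hφ1
  refine ⟨?_, S2934.card_of_equiv e, ?_⟩
  · have h1 : orderOf φ ∣ 24 := by
      rw [← S2934.card_mulAut_of_equiv e]
      exact _root_.orderOf_dvd_natCard φ
    obtain ⟨j, hj, h2⟩ := (Nat.dvd_prime_pow hpp.out).1 (orderOf_dvd_of_pow_eq_one hφk)
    rcases j with _ | j
    · exfalso
      rw [pow_zero] at h2
      exact hφ1 (orderOf_eq_one_iff.1 h2)
    · have h3 : p ∣ 24 := by
        refine dvd_trans ?_ h1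
        rw [h2, pow_succ]
        exact dvd_mul_left _ _
      have h4 : p ∣ 2 ^ 3 * 3 := by norm_num; exact h3
      rcases (Nat.Prime.dvd_mul hpp.out).1 h4 with h5 | h5
      · exact absurd ((Nat.prime_dvd_prime_iff_eq hpp.out Nat.prime_two).1 (hpp.out.dvd_of_dvd_pow h5)) hp2
      · exact (Nat.prime_dvd_prime_iff_eq hpp.out Nat.prime_three).1 h5
  · intro c hc hcu
    have h1 := S2934.sq_of_fixed hT e φ hodd hφk hφ1 ⟨c, hc⟩ (Subtype.ext (by
      rw [hφa]
      change u * c * u⁻¹ = c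
      rw [hcu]; group))
    have h2 := congrArg Subtype.val h1
    rw [pow_two] at h2
    exact h2

theorem card_cj (g : G) (A : Subgroup G) : Nat.card (cj g A) = Nat.card A :=
  (Nat.card_congr (A.equivMapOfInjective (MulAut.conj g).toMonoidHom (MulAut.conj g).injective).toEquiv).symm

theorem isPGroup_cj {p : ℕ} (g : G) {A : Subgroup G} (h : IsPGroup p A) : IsPGroup p (cj g A) :=
  h.map _

/-- A `2`-subgroup of `M ≥ S` is conjugate in `M` to a subgroup of the Sylow subgroup `S`. -/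
theorem exists_cj_le [Finite G] {p : ℕ} [Fact p.Prime] (S : Sylow p G) {M B : Subgroup G} (hS : (S : Subgroup G) ≤ M) (hB : B ≤ M)
    (hB2 : IsPGroup p B) : ∃ m ∈ M, cj m B ≤ (S : Subgroup G) := by
  have h1 : IsPGroup p (B.subgroupOf M) := hB2.comap_of_injective M.subtype M.subtype_injective
  obtain ⟨Q, hQ⟩ := h1.exists_le_sylow
  obtain ⟨m, hm⟩ := MulAction.exists_smul_eq M Q (S.subtype hS)
  refine ⟨m, m.2, ?_⟩
  intro x hx
  rw [mem_cj] at hx
  have h2 : (⟨(m : G)⁻¹ * x * m, hB hx⟩ : M) ∈ (Q : Subgroup M) := hQ hx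
  have h3 : m * ⟨(m : G)⁻¹ * x * m, hB hx⟩ * m⁻¹ ∈ ((m • Q : Sylow p M) : Subgroup M) := by
    rw [Sylow.coe_subgroup_smul, mem_pointwise_smul_iff_inv_smul_mem]
    simp only [MulAut.smul_def, MulAut.conj_inv_apply]
    have e : m⁻¹ * (m * ⟨(m : G)⁻¹ * x * m, hB hx⟩ * m⁻¹) * m = ⟨(m : G)⁻¹ * x * m, hB hx⟩ := by group
    rw [e]; exact h2
  rw [hm] at h3
  have h4 : ((m * ⟨(m : G)⁻¹ * x * m, hB hx⟩ * m⁻¹ : M) : G) ∈ (S : Subgroup G) := h3
  have h5 : ((m * ⟨(m : G)⁻¹ * x * m, hB hx⟩ * m⁻¹ : M) : G) = x := by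
    change (m : G) * ((m : G)⁻¹ * x * m) * (m : G)⁻¹ = x
    group
  rwa [h5] at h4

/-- `|A| |B| ≤ |S| |A ⊓ B|` -/
theorem card_mul_card_le [Finite G] {A B S : Subgroup G} (hA : A ≤ S) (hB : B ≤ S) :
    Nat.card A * Nat.card B ≤ Nat.card S * Nat.card ↥(B ⊓ A) := by
  have h1 : Nat.card ↥(B ⊓ A) * B.relIndex A = Nat.card A := by
    rw [← inf_relIndex_right]
    have := card_mul_index ((B ⊓ A).subgroupOf A)
    rwa [show Nat.card ↥((B ⊓ A).subgroupOf A) = Nat.card ↥(B ⊓ A) from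
      Nat.card_congr (subgroupOfEquivOfLe inf_le_right).toEquiv] at this
  have h2 : Nat.card B * B.relIndex S = Nat.card S := by
    have := card_mul_index (B.subgroupOf S)
    rwa [show Nat.card ↥(B.subgroupOf S) = Nat.card B from
      Nat.card_congr (subgroupOfEquivOfLe hB).toEquiv] at this
  have h3 : B.relIndex A ≤ B.relIndex S := relIndex_le_of_le_right hA (B.subgroupOf S).index_ne_zero_of_finite
  calc Nat.card A * Nat.card B = Nat.card ↥(B ⊓ A) * B.relIndex A * Nat.card B := by rw [h1]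
    _ ≤ Nat.card ↥(B ⊓ A) * B.relIndex S * Nat.card B := by gcongr
    _ = Nat.card S * Nat.card ↥(B ⊓ A) := by rw [← h2]; ring

/-- An element `h ∈ M` inverting `u` of odd order gives a `2`-subgroup of `M ∩ N(⟨u⟩)` twice as large as a given one of
`M ∩ C(u)`. -/
theorem exists_double [Finite G] {M C : Subgroup G} {u h : G} (hu : u⁻¹ ≠ u) (hC : C ≤ M ⊓ centralizer {u})
    (hC2 : IsPGroup 2 C) (hh : h ∈ M) (hinv : h * u * h⁻¹ = u⁻¹) :
    ∃ D : Subgroup G, D ≤ M ∧ D ≤ normalizer (zpowers u : Set G) ∧ IsPGroup 2 D ∧ Nat.card D = 2 * Nat.card C := by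
  set N : Subgroup G := M ⊓ normalizer (zpowers u : Set G) with hN
  let ι : N →* ↥(normalizer (zpowers u : Set G)) := inclusion inf_le_right
  let φ : N →* MulAut (zpowers u) := (zpowers u).normalizerMonoidHom.comp ι
  have hφ : ∀ (g : N) (c : zpowers u), ((φ g c : zpowers u) : G) = g * c * (g : G)⁻¹ := fun _ _ => rfl
  have hcen : centralizer {u} ≤ normalizer (zpowers u : Set G) := by
    intro g hg
    rw [mem_centralizer_singleton_iff] at hg
    rw [mem_normalizer_iff_cj]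
    have key : ∀ c ∈ zpowers u, g * c = c * g := by
      rintro _ ⟨k, rfl⟩
      have h1 : Commute g u := hg
      exact (h1.zpow_right k)
    ext c
    rw [mem_cj]
    constructor
    · intro hc
      have h1 := key _ hc
      have h2 : c = g⁻¹ * c * g := by
        calc c = g * (g⁻¹ * c * g) * g⁻¹ := by group
          _ = g⁻¹ * c * g := by rw [h1]; group
      rw [h2]; exact hc
    · intro hc
      have h1 := key _ hc
      have h2 : g⁻¹ * c * g = c := by rw [mul_assoc, ← h1]; group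
      rwa [h2]
  have hhN : h ∈ N := by
    refine ⟨hh, ?_⟩
    show h ∈ normalizer (zpowers u : Set G)
    rw [mem_normalizer_iff_cj]
    unfold cj
    rw [MonoidHom.map_zpowers]
    have e : (MulAut.conj h).toMonoidHom u = u⁻¹ := hinv
    rw [e, zpowers_inv]
  have hker : Nat.card C ∣ Nat.card φ.ker := by
    have h1 : C ≤ N := le_inf (hC.trans inf_le_left) ((hC.trans inf_le_right).trans hcen)
    have h2 : C.subgroupOf N ≤ φ.ker := by
      intro g hg
      rw [MonoidHom.mem_ker]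
      have h3 := mem_centralizer_singleton_iff.1 ((hC hg).2)
      apply MulEquiv.ext
      rintro ⟨_, k, rfl⟩
      apply Subtype.ext
      rw [hφ]
      have h4 : Commute (g : G) u := h3
      have h5 := (h4.zpow_right k).eq
      change (g : G) * u ^ k * (g : G)⁻¹ = u ^ k
      rw [h5]; group
    have h3 := card_dvd_of_le h2
    rwa [show Nat.card ↥(C.subgroupOf N) = Nat.card C from Nat.card_congr (subgroupOfEquivOfLe h1).toEquiv] at h3
  have hran : 2 ∣ Nat.card φ.range := by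
    have h1 : orderOf (φ ⟨h, hhN⟩) = 2 := by
      apply orderOf_eq_prime
      · apply MulEquiv.ext
        rintro ⟨_, k, rfl⟩
        apply Subtype.ext
        rw [← map_pow, hφ]
        change ((⟨h, hhN⟩ : N) ^ 2 : N).1 * u ^ k * (((⟨h, hhN⟩ : N) ^ 2 : N).1)⁻¹ = u ^ k
        have e : ((⟨h, hhN⟩ : N) ^ 2 : N).1 = h * h := by rw [pow_two]; rfl
        rw [e]
        have h2 : h * h * u * (h * h)⁻¹ = u := by
          calc h * h * u * (h * h)⁻¹ = h * (h * u * h⁻¹) * h⁻¹ := by group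
            _ = h * u⁻¹ * h⁻¹ := by rw [hinv]
            _ = (h * u * h⁻¹)⁻¹ := by group
            _ = u := by rw [hinv, inv_inv]
        calc h * h * u ^ k * (h * h)⁻¹ = (h * h * u * (h * h)⁻¹) ^ k := (conj_zpow).symm
          _ = u ^ k := by rw [h2]
      · intro h2
        apply hu
        have h3 := hφ ⟨h, hhN⟩ ⟨u, mem_zpowers u⟩
        rw [h2] at h3
        change u = h * u * h⁻¹ at h3
        rw [← hinv]; exact h3.symm
    rw [← h1]
    have h2 := _root_.orderOf_dvd_natCard (⟨φ ⟨h, hhN⟩, ⟨_, rfl⟩⟩ : φ.range)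
    rwa [← orderOf_coe] at h2
  have hdvd : 2 * Nat.card C ∣ Nat.card N := by
    have h1 := card_mul_index φ.ker
    rw [index_ker] at h1
    rw [← h1, mul_comm]
    exact mul_dvd_mul hker hran
  obtain ⟨k, hk⟩ := (IsPGroup.iff_card).1 hC2
  have : Fact (Nat.Prime 2) := ⟨Nat.prime_two⟩
  obtain ⟨D, hD⟩ := Sylow.exists_subgroup_card_pow_prime (G := N) 2 (n := k + 1) (by
    rw [pow_succ', ← hk]; exact hdvd)
  refine ⟨D.map N.subtype, ?_, ?_, ?_, ?_⟩
  · exact (map_subtype_le D).trans inf_le_left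
  · exact (map_subtype_le D).trans inf_le_right
  · exact (IsPGroup.of_card hD).map _
  · rw [card_map_of_injective N.subtype_injective, hD, hk, pow_succ']

theorem comm_mem {u : G} (S : Subgroup G) (hS : u ∈ normalizer (S : Set G)) {s : G} (hs : s ∈ S) :
    u⁻¹ * (s * u * s⁻¹) ∈ S := by
  have h1 : u⁻¹ * s * u ∈ S := by
    have h2 := (mem_normalizer_iff.1 (inv_mem hS) s).1 hs
    rwa [inv_inv] at h2
  have h3 : u⁻¹ * (s * u * s⁻¹) = u⁻¹ * s * u * s⁻¹ := by group
  rw [h3]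
  exact mul_mem h1 (inv_mem hs)

namespace Frm

variable {p : ℕ} {X Xn V : Subgroup G} {z : G} (F : Frm p X Xn V z)

include F

theorem cj_X {v : G} (hv : v ∈ V) : cj v X = X := by
  ext x
  rw [mem_cj]
  constructor
  · intro hx
    have h1 := F.comm v hv _ hx
    have h2 : x = v⁻¹ * x * v := by
      calc x = v * (v⁻¹ * x * v) * v⁻¹ := by group
        _ = v⁻¹ * x * v := by rw [h1]; group
    rw [h2]; exact hx
  · intro hx
    have h1 := F.comm v hv _ hx
    have h2 : v⁻¹ * x * v = x := by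
      calc v⁻¹ * x * v = v⁻¹ * (x * v) := by group
        _ = x := by rw [← h1]; group
    rw [h2]; exact hx

theorem sup_cj {v : G} (hv : v ∈ V) : X ⊔ cj v Xn = cj v (X ⊔ Xn) := by
  rw [cj_sup, F.cj_X hv]

theorem uniq_cj {v : G} {c : G} (hc : c ∈ cj v (X ⊔ Xn)) (h1 : c * c = 1) (h2 : c ≠ 1) : c = v * z * v⁻¹ := by
  rw [mem_cj] at hc
  have h3 := F.uniq _ hc (by
    calc v⁻¹ * c * v * (v⁻¹ * c * v) = v⁻¹ * (c * c) * v := by group
      _ = 1 := by rw [h1]; group) (by
    intro h3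
    apply h2
    calc c = v * (v⁻¹ * c * v) * v⁻¹ := by group
      _ = 1 := by rw [h3]; group)
  rw [← h3]; group

/-- two conjugates of `⟨X, Xn⟩` under `V` with the same involution are equal -/
theorem cj_eq {v w : G} (hv : v ∈ V) (hw : w ∈ V) (e : v * z * v⁻¹ = w * z * w⁻¹) :
    cj v (X ⊔ Xn) = cj w (X ⊔ Xn) := by
  have h1 : v⁻¹ * w ∈ X := by
    apply F.cz _ (mul_mem (inv_mem hv) hw)
    calc v⁻¹ * w * z = v⁻¹ * (w * z * w⁻¹) * w := by group
      _ = v⁻¹ * (v * z * v⁻¹) * w := by rw [e]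
      _ = z * (v⁻¹ * w) := by group
  have h2 : w = v * (v⁻¹ * w) := by group
  rw [h2, cj_mul, cj_eq_of_mem ((le_sup_left : X ≤ X ⊔ Xn) h1)]

variable [Finite G] [hpp : Fact p.Prime] (hp2 : p ≠ 2) {u : G} (hu : u ∈ X) (hu1 : u ≠ 1) (S : Sylow 2 G)
  (hS : u ∈ normalizer ((S : Subgroup G) : Set G))

include hp2 hu hu1 hS

/-- an element of `S` commutes with `u` or makes `X` opposite -/
theorem step_a {s : G} (hs : s ∈ (S : Subgroup G)) :
    (s * u * s⁻¹ = u ∧ cj s X = X) ∨ (u⁻¹ * (s * u * s⁻¹) ≠ 1 ∧ ∃ v ∈ V, cj s X = cj v Xn) := by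
  have h1 := comm_mem (S : Subgroup G) hS hs
  have key : u⁻¹ * (s * u * s⁻¹) = 1 → s * u * s⁻¹ = u ∧ cj s X = X := by
    intro h2
    have h3 : s * u * s⁻¹ = u := by
      calc s * u * s⁻¹ = u * (u⁻¹ * (s * u * s⁻¹)) := by group
        _ = u := by rw [h2, mul_one]
    exact ⟨h3, F.ti s ⟨u, hu, hu1, by rw [h3]; exact hu⟩⟩
  by_cases h2 : u⁻¹ * (s * u * s⁻¹) = 1
  · exact Or.inl (key h2)
  right
  refine ⟨h2, ?_⟩
  have hmem : s * u * s⁻¹ ∈ cj s X := conj_mem_cj.2 hu
  rcases F.tri s with h3 | h3 | h3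
  · exfalso
    apply h2
    rw [h3] at hmem
    exact eq_one_of_two_of_p hp2 S.2 F.pX h1 (mul_mem (inv_mem hu) hmem)
  · exfalso
    apply h2
    exact eq_one_of_two_of_p hp2 S.2 h3 h1 (mul_mem (inv_mem ((le_sup_left : X ≤ _) hu))
      ((le_sup_right : cj s X ≤ _) hmem))
  · exact h3

/-- the involution of `⟨X, X^s⟩` lies in `S` -/
theorem step_b {s : G} (hs : s ∈ (S : Subgroup G)) (hne : u⁻¹ * (s * u * s⁻¹) ≠ 1) {v : G} (hv : v ∈ V)
    (e : cj s X = cj v Xn) : v * z * v⁻¹ ∈ (S : Subgroup G) := by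
  have h1 := comm_mem (S : Subgroup G) hS hs
  have h2 : u⁻¹ * (s * u * s⁻¹) ∈ cj v (X ⊔ Xn) := by
    rw [← F.sup_cj hv]
    refine mul_mem (inv_mem ((le_sup_left : X ≤ _) hu)) ((le_sup_right : cj v Xn ≤ _) ?_)
    rw [← e]
    exact conj_mem_cj.2 hu
  obtain ⟨m, h3, h4⟩ := exists_inv_pow S.2 h1 hne
  have h5 := F.uniq_cj (pow_mem h2 m) h3 h4
  rw [← h5]
  exact pow_mem h1 m

theorem step_c {s t : G} (hs : s ∈ (S : Subgroup G)) (hne : u⁻¹ * (s * u * s⁻¹) ≠ 1) {v : G} (hv : v ∈ V)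
    (e : cj s X = cj v Xn) (ht : t ∈ (S : Subgroup G)) (hne' : u⁻¹ * (t * u * t⁻¹) ≠ 1) {w : G} (hw : w ∈ V)
    (e' : cj t X = cj w Xn) : cj v (X ⊔ Xn) = cj w (X ⊔ Xn) := by
  have h1 := F.step_b hp2 hu hu1 S hS hs hne hv e
  have h2 := F.step_b hp2 hu hu1 S hS ht hne' hw e'
  apply F.cj_eq hv hw
  have h3 : v * z * v⁻¹ * (w * z * w⁻¹)⁻¹ ∈ (S : Subgroup G) := mul_mem h1 (inv_mem h2)
  have h4 : v * z * v⁻¹ * (w * z * w⁻¹)⁻¹ ∈ V := by
    have h5 : v * z * v⁻¹ * (w * z * w⁻¹)⁻¹ = (v * z * v⁻¹ * z⁻¹) * (w * z * w⁻¹ * z⁻¹)⁻¹ := by group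
    rw [h5]
    exact mul_mem (F.vz v hv) (inv_mem (F.vz w hw))
  exact mul_inv_eq_one.1 (eq_one_of_two_of_p hp2 S.2 F.pV h3 h4)

/-- all conjugates of `X` under `S` lie in the same conjugate of `⟨X, Xn⟩`, which is normalised by `S` -/
theorem step_d {s : G} (hs : s ∈ (S : Subgroup G)) (hne : u⁻¹ * (s * u * s⁻¹) ≠ 1) {v : G} (hv : v ∈ V)
    (e : cj s X = cj v Xn) {t : G} (ht : t ∈ (S : Subgroup G)) :
    cj t (cj v (X ⊔ Xn)) = cj v (X ⊔ Xn) := by
  have key : ∀ t ∈ (S : Subgroup G), cj t X ≤ cj v (X ⊔ Xn) := by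
    intro t ht
    rcases F.step_a hp2 hu hu1 S hS ht with ⟨-, h1⟩ | ⟨h1, w, hw, h2⟩
    · rw [h1, ← F.sup_cj hv]
      exact le_sup_left
    · rw [F.step_c hp2 hu hu1 S hS hs hne hv e ht h1 hw h2, h2, ← F.sup_cj hw]
      exact le_sup_right
  have key2 : ∀ t ∈ (S : Subgroup G), cj t (cj v (X ⊔ Xn)) ≤ cj v (X ⊔ Xn) := by
    intro t ht
    rw [← F.sup_cj hv, ← e, cj_sup, ← cj_mul, e, F.sup_cj hv]
    exact sup_le (key t ht) (key _ (mul_mem ht hs))
  apply le_antisymm (key2 t ht)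
  have h1 := cj_mono t (key2 t⁻¹ (inv_mem ht))
  rwa [cj_cj_inv] at h1

omit hS in
/-- **The abstract theorem.** -/
theorem wand (h : G) (hinv : h * u * h⁻¹ = u⁻¹) (hK : cj h (X ⊔ Xn) = X ⊔ Xn)
    (H3 : p = 3 → (∀ c ∈ X ⊔ Xn, c * c = z → cj c X ≠ X) ∨ ∃ B ≤ X ⊔ Xn, IsPGroup 2 B ∧ 16 ≤ Nat.card B) :
    Wand G := by
  have hup : IsPGroup p (zpowers u) := F.pX.to_le (by rw [zpowers_le]; exact hu)
  have hodd : Odd (orderOf u) := by
    obtain ⟨k, hk⟩ := (IsPGroup.iff_orderOf.1 hup) ⟨u, mem_zpowers u⟩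
    rw [← orderOf_coe] at hk
    change orderOf u = p ^ k at hk
    rw [hk]
    exact (hpp.out.odd_of_ne_two hp2).pow
  have hreal : IsConj u u⁻¹ := isConj_iff.2 ⟨h, hinv⟩
  have huu : u⁻¹ ≠ u := by
    intro h1
    have h2 : u ^ 2 = 1 := by rw [pow_two]; nth_rewrite 1 [← h1]; exact inv_mul_cancel u
    have h3 := orderOf_dvd_of_pow_eq_one h2
    have h4 : orderOf u ≠ 1 := fun h4 => hu1 (orderOf_eq_one_iff.1 h4)
    rcases (Nat.dvd_prime Nat.prime_two).1 h3 with h5 | h5
    · exact h4 h5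
    · rw [h5] at hodd; exact absurd hodd (by decide)
  refine ⟨u, hodd, hreal, fun S hS => ?_⟩
  -- an element `s` of `S` which does not commute with `u`
  obtain ⟨s, hs, hsu⟩ : ∃ s ∈ (S : Subgroup G), ¬ (s * u * s⁻¹ = u) := by
    by_contra hcon
    push Not at hcon
    apply not_le_centralizer hodd hreal hu1 S
    intro s hs
    rw [mem_centralizer_singleton_iff]
    have h1 := hcon s hs
    calc s * u = (s * u * s⁻¹) * s := by group
      _ = u * s := by rw [h1]
  obtain ⟨hne, v, hv, e⟩ : u⁻¹ * (s * u * s⁻¹) ≠ 1 ∧ ∃ v ∈ V, cj s X = cj v Xn := by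
    rcases F.step_a hp2 hu hu1 S hS hs with h1 | h1
    · exact absurd h1.1 hsu
    · exact h1
  set K : Subgroup G := cj v (X ⊔ Xn) with hKdef
  set z₀ : G := v * z * v⁻¹ with hz₀
  have hz₀S : z₀ ∈ (S : Subgroup G) := F.step_b hp2 hu hu1 S hS hs hne hv e
  have hz₀K : z₀ ∈ K := conj_mem_cj.2 F.z_mem
  have hKS : ∀ t ∈ (S : Subgroup G), cj t K = K := fun t ht => F.step_d hp2 hu hu1 S hS hs hne hv e ht
  have hXK : X ≤ K := by
    rw [hKdef, ← F.sup_cj hv]; exact le_sup_left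
  have huK : u ∈ K := hXK hu
  set T₁ : Subgroup G := (S : Subgroup G) ⊓ K with hT₁
  have hT₁2 : IsPGroup 2 T₁ := S.2.to_le inf_le_left
  have huniq : ∀ c ∈ T₁, c * c = 1 → c ≠ 1 → c = z₀ := fun c hc h1 h2 => F.uniq_cj hc.2 h1 h2
  have hcomm : ∀ t ∈ (S : Subgroup G), u⁻¹ * (t * u * t⁻¹) ∈ T₁ := by
    intro t ht
    refine mem_inf.2 ⟨comm_mem (S : Subgroup G) hS ht, mul_mem (inv_mem huK) ?_⟩
    have h1 := hKS t ht
    have h2 : t * u * t⁻¹ ∈ cj t K := conj_mem_cj.2 huK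
    rwa [h1] at h2
  have huT : u ∈ normalizer (T₁ : Set G) := by
    rw [mem_normalizer_iff]
    intro c
    have h1 := mem_normalizer_iff.1 hS c
    constructor
    · intro hc
      exact mem_inf.2 ⟨h1.1 hc.1, mul_mem (mul_mem huK hc.2) (inv_mem huK)⟩
    · intro hc
      refine mem_inf.2 ⟨h1.2 hc.1, ?_⟩
      have h2 : c = u⁻¹ * (u * c * u⁻¹) * u := by group
      rw [h2]
      exact mul_mem (mul_mem (inv_mem huK) hc.2) huK
  have hnc : ¬ ∀ c ∈ T₁, u * c = c * u := by
    intro h1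
    have h2 := h1 _ (hcomm s hs)
    apply hne
    set c := u⁻¹ * (s * u * s⁻¹) with hc
    have h3 : Commute u c := h2
    have h4 : c ^ orderOf u = 1 := by
      have h5 : u * c = s * u * s⁻¹ := by rw [hc]; group
      have h6 : (u * c) ^ orderOf u = 1 := by
        rw [h5, conj_pow, pow_orderOf_eq_one]; group
      rwa [h3.mul_pow, pow_orderOf_eq_one, one_mul] at h6
    have h5 : orderOf c ∣ orderOf u := orderOf_dvd_of_pow_eq_one h4
    obtain ⟨k, hk⟩ := (IsPGroup.iff_orderOf.1 hT₁2) ⟨c, hcomm s hs⟩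
    rw [← orderOf_coe] at hk
    change orderOf c = 2 ^ k at hk
    rcases k with _ | k
    · rw [pow_zero] at hk; exact orderOf_eq_one_iff.1 hk
    · exfalso
      have h6 : 2 ∣ orderOf u := dvd_trans (by rw [hk, pow_succ]; exact dvd_mul_left _ _) h5
      rw [← Nat.not_even_iff_odd] at hodd
      exact hodd (even_iff_two_dvd.2 h6)
  obtain ⟨hp3, hcard, hfix⟩ := quat_of_norm hp2 hT₁2 huniq huT hup hnc
  have hSM : (S : Subgroup G) ≤ normalizer (K : Set G) := fun t ht => mem_normalizer_iff_cj.2 (hKS t ht)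
  rcases H3 hp3 with H | ⟨B, hBK, hB2, hB16⟩
  · -- the first alternative
    set C : Subgroup G := (S : Subgroup G) ⊓ centralizer {u} with hC
    have hvu : v * u * v⁻¹ = u := by rw [F.comm v hv u hu]; group
    obtain ⟨D, hD1, hD2, hD3, hD4⟩ := exists_double (M := normalizer (K : Set G)) (C := C) (u := u) (h := v * h * v⁻¹)
      huu (le_inf (inf_le_left.trans hSM) inf_le_right) (S.2.to_le inf_le_left) (by
        show v * h * v⁻¹ ∈ normalizer (K : Set G)
        rw [mem_normalizer_iff_cj, hKdef, ← cj_mul]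
        have e1 : v * h * v⁻¹ * v = v * h := by group
        rw [e1, cj_mul, hK]) (by
        have e1 : v * h * v⁻¹ * u * (v * h * v⁻¹)⁻¹ = v * (h * (v⁻¹ * u * v) * h⁻¹) * v⁻¹ := by group
        have e2 : v⁻¹ * u * v = u := by
          calc v⁻¹ * u * v = v⁻¹ * (v * u * v⁻¹) * v := by rw [hvu]
            _ = u := by group
        rw [e1, e2, hinv]
        calc v * u⁻¹ * v⁻¹ = (v * u * v⁻¹)⁻¹ := by group
          _ = u⁻¹ := by rw [hvu])
    -- `|S| ≤ 4 |C|`
    have hidx : Nat.card (S : Subgroup G) ≤ 4 * Nat.card C := by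
      set Cs : Subgroup (S : Subgroup G) := (centralizer {u}).subgroupOf (S : Subgroup G) with hCs
      have h1 : Nat.card Cs = Nat.card C := by
        rw [hCs, ← inf_subgroupOf_right, inf_comm]
        exact Nat.card_congr (subgroupOfEquivOfLe inf_le_left).toEquiv
      have h2 := card_mul_index Cs
      rw [h1] at h2
      obtain ⟨n, hn⟩ := (IsPGroup.iff_card).1 S.2
      obtain ⟨j, -, hj⟩ := (Nat.dvd_prime_pow Nat.prime_two).1 (hn ▸ index_dvd_card Cs)
      have h3 : Cs.index < 8 := by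
        by_contra hcon
        push Not at hcon
        let ψ : (S : Subgroup G) ⧸ Cs → T₁ := Quotient.lift
          (fun t : (S : Subgroup G) => (⟨u⁻¹ * ((t : G) * u * (t : G)⁻¹), hcomm t t.2⟩ : T₁)) (by
            intro a b hab
            have h4 := QuotientGroup.leftRel_apply.1 hab
            have h5 := mem_centralizer_singleton_iff.1 (mem_subgroupOf.1 h4)
            apply Subtype.ext
            change u⁻¹ * ((a : G) * u * (a : G)⁻¹) = u⁻¹ * ((b : G) * u * (b : G)⁻¹)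
            have h6 : ((a : G)⁻¹ * b) * u = u * ((a : G)⁻¹ * b) := h5
            congr 1
            calc (a : G) * u * (a : G)⁻¹ = a * (u * ((a : G)⁻¹ * b)) * (b : G)⁻¹ := by group
              _ = a * (((a : G)⁻¹ * b) * u) * (b : G)⁻¹ := by rw [h6]
              _ = (b : G) * u * (b : G)⁻¹ := by group)
        have hψ : Function.Injective ψ := by
          intro a b
          induction a using QuotientGroup.induction_on with | _ a => ?_
          induction b using QuotientGroup.induction_on with | _ b => ?_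
          intro h4
          have h5 : u⁻¹ * ((a : G) * u * (a : G)⁻¹) = u⁻¹ * ((b : G) * u * (b : G)⁻¹) := congrArg Subtype.val h4
          have h6 := mul_left_cancel h5
          rw [QuotientGroup.eq, hCs, mem_subgroupOf, mem_centralizer_singleton_iff]
          change ((a : G)⁻¹ * b) * u = u * ((a : G)⁻¹ * b)
          calc ((a : G)⁻¹ * b) * u = (a : G)⁻¹ * ((b : G) * u * (b : G)⁻¹) * b := by group
            _ = (a : G)⁻¹ * ((a : G) * u * (a : G)⁻¹) * b := by rw [h6]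
            _ = u * ((a : G)⁻¹ * b) := by group
        have hb := hψ.bijective_of_nat_card_le (by rw [hcard]; exact hcon)
        obtain ⟨a, ha⟩ := hb.2 ⟨z₀, hz₀S, hz₀K⟩
        induction a using QuotientGroup.induction_on with | _ a => ?_
        have h5 : u⁻¹ * ((a : G) * u * (a : G)⁻¹) = z₀ := congrArg Subtype.val ha
        -- `z₀` commutes with `u`
        have h6 : u * z₀ * u⁻¹ = z₀ := by
          apply huniq
          · exact (mem_normalizer_iff.1 huT _).1 ⟨hz₀S, hz₀K⟩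
          · calc u * z₀ * u⁻¹ * (u * z₀ * u⁻¹) = u * (v * (z * z) * v⁻¹) * u⁻¹ := by rw [hz₀]; group
              _ = 1 := by rw [F.z_sq]; group
          · intro h6
            apply F.z_ne
            calc z = v⁻¹ * (u⁻¹ * (u * (v * z * v⁻¹) * u⁻¹) * u) * v := by group
              _ = 1 := by rw [← hz₀, h6]; group
        have h7 : Commute u z₀ := by
          show u * z₀ = z₀ * u
          calc u * z₀ = (u * z₀ * u⁻¹) * u := by group
            _ = z₀ * u := by rw [h6]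
        have h8 : (u * z₀) ^ orderOf u = 1 := by
          have h9 : u * z₀ = (a : G) * u * (a : G)⁻¹ := by rw [← h5]; group
          rw [h9, conj_pow, pow_orderOf_eq_one]; group
        rw [h7.mul_pow, pow_orderOf_eq_one, one_mul] at h8
        have h9 : z₀ ^ 2 = 1 := by
          rw [pow_two]
          calc v * z * v⁻¹ * (v * z * v⁻¹) = v * (z * z) * v⁻¹ := by group
            _ = 1 := by rw [F.z_sq]; group
        have h10 : z₀ = 1 := by
          obtain ⟨k, hk⟩ := hodd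
          rw [hk, pow_succ, pow_mul, h9, one_pow, one_mul] at h8
          exact h8
        apply F.z_ne
        calc z = v⁻¹ * (v * z * v⁻¹) * v := by group
          _ = 1 := by rw [← hz₀, h10]; group
      have h4 : Cs.index ≤ 4 := by
        rw [hj] at h3 ⊢
        have h5 : j < 3 := by
          by_contra h5
          push Not at h5
          have := Nat.pow_le_pow_right (n := 2) (by norm_num) h5
          omega
        calc 2 ^ j ≤ 2 ^ 2 := Nat.pow_le_pow_right (by norm_num) (by omega)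
          _ = 4 := by norm_num
      calc Nat.card (S : Subgroup G) = Nat.card C * Cs.index := h2.symm
        _ ≤ Nat.card C * 4 := Nat.mul_le_mul_left _ h4
        _ = 4 * Nat.card C := mul_comm _ _
    obtain ⟨m, hm, hmD⟩ := exists_cj_le S hSM hD1 hD3
    have h1 := card_mul_card_le hmD (inf_le_left : T₁ ≤ (S : Subgroup G))
    rw [card_cj, hcard, hD4] at h1
    have hCpos : 0 < Nat.card C := Nat.card_pos
    have h2 : 4 ≤ Nat.card ↥(T₁ ⊓ cj m D) := by
      have h3 : 2 * Nat.card C * 8 ≤ 4 * Nat.card C * Nat.card ↥(T₁ ⊓ cj m D) :=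
        h1.trans (Nat.mul_le_mul_right _ hidx)
      nlinarith only [hCpos, h3]
    obtain ⟨a, ha, ha1, haz⟩ : ∃ a ∈ T₁ ⊓ cj m D, a ≠ 1 ∧ a ≠ z₀ := by
      by_contra hcon
      push Not at hcon
      have h3 : ((T₁ ⊓ cj m D : Subgroup G) : Set G) ⊆ {1, z₀} := by
        intro a ha
        by_cases h4 : a = 1
        · left; exact h4
        · right; exact hcon a ha h4
      have h4 : Nat.card ↥(T₁ ⊓ cj m D) ≤ 2 := by
        have h5 := Set.ncard_le_ncard h3 (Set.toFinite _)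
        have h6 : ({1, z₀} : Set G).ncard ≤ 2 := Set.ncard_insert_le _ _ |>.trans (by rw [Set.ncard_singleton])
        have h7 : Nat.card ↥(T₁ ⊓ cj m D) = ((T₁ ⊓ cj m D : Subgroup G) : Set G).ncard := rfl
        omega
      omega
    obtain ⟨j, hj⟩ := exists_sqrt_pow hT₁2 huniq ha.1 ha1 haz
    set c := a ^ j with hc
    have hcT : c ∈ T₁ := pow_mem ha.1 j
    have hcD : m⁻¹ * c * m ∈ D := by
      have h3 : c ∈ cj m D := pow_mem ha.2 j
      exact mem_cj.1 h3
    set c' := m⁻¹ * c * m with hc'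
    have hc'X : cj c' X = X := by
      have h3 := hD2 hcD
      apply F.ti c' ⟨u, hu, hu1, ?_⟩
      have h4 := (mem_normalizer_iff.1 h3 u).1 (mem_zpowers u)
      have h5 : zpowers u ≤ X := by rw [zpowers_le]; exact hu
      exact h5 h4
    have hc'K : c' ∈ K := by
      have h3 : m⁻¹ ∈ normalizer (K : Set G) := inv_mem hm
      have h4 := (mem_normalizer_iff.1 h3 c).1 hcT.2
      rwa [inv_inv] at h4
    have hc'2 : c' * c' = z₀ := by
      have h3 : c' * c' = m⁻¹ * z₀ * m := by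
        calc c' * c' = m⁻¹ * (c * c) * m := by rw [hc']; group
          _ = m⁻¹ * z₀ * m := by rw [hj]
      have h4 : z₀ * z₀ = 1 := by
        calc v * z * v⁻¹ * (v * z * v⁻¹) = v * (z * z) * v⁻¹ := by group
          _ = 1 := by rw [F.z_sq]; group
      apply F.uniq_cj (mul_mem hc'K hc'K)
      · rw [h3]
        calc m⁻¹ * z₀ * m * (m⁻¹ * z₀ * m) = m⁻¹ * (z₀ * z₀) * m := by group
          _ = 1 := by rw [h4]; group
      · rw [h3]
        intro h5
        apply F.z_ne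
        calc z = v⁻¹ * (m * (m⁻¹ * (v * z * v⁻¹) * m) * m⁻¹) * v := by group
          _ = 1 := by rw [← hz₀, h5]; group
    apply H (v⁻¹ * c' * v) (mem_cj.1 hc'K)
    · calc v⁻¹ * c' * v * (v⁻¹ * c' * v) = v⁻¹ * (c' * c') * v := by group
        _ = z := by rw [hc'2, hz₀]; group
    · rw [cj_mul, cj_mul, F.cj_X hv, hc'X, F.cj_X (inv_mem hv)]
  · -- the second alternative
    have h1 : cj v B ≤ normalizer (K : Set G) := (cj_mono v hBK).trans le_normalizer
    obtain ⟨m, hm, h2⟩ := exists_cj_le S hSM h1 (isPGroup_cj v hB2)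
    have h3 : cj m (cj v B) ≤ T₁ := by
      refine le_inf h2 ?_
      have h4 := cj_mono m (cj_mono v hBK)
      rwa [← hKdef, mem_normalizer_iff_cj.1 hm] at h4
    have h4 := card_le_of_le h3
    rw [card_cj, card_cj, hcard] at h4
    omega

end Frm

end Cfsg.Agent.H132
end

-- part: H132/FrmCls
section
/-!
# `Wand` from classical root groups (`Nodes.Chart.Cls`)

* `frm_of_cls` : the data `Frm` of a dominant classical root;
* `h3_of_sl` : the condition for `p = 3`;
* `wand_of_cls` : `Wand` for a group generated by a root group datum with classical root groups, if some element of `Z r`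
  is inverted by an element of the torus;
* `wand_of_cls_pair` : if there are two non-orthogonal classical roots.
-/

set_option autoImplicit false
set_option linter.unusedSectionVars false

namespace Cfsg.Agent.H132

open Subgroup CoxeterSystem Cfsg.Agent.ChevalleyStructure.CoxeterGeom Cfsg.Agent.Tits.Roots Cfsg.Agent.Tits.Core
  Cfsg.Agent.Nodes.Comb Cfsg.Agent.Nodes.Reps Cfsg.Agent.Nodes.BNOf Cfsg.Agent.Nodes.RGDLib Cfsg.Agent.Nodes.Chart
  Cfsg.Agent.Nodes.StabComb Cfsg.Agent.Nodes.Bruhat Cfsg.Agent.Nodes.OppDec Cfsg.Agent.Nodes.LeviDec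
  Cfsg.Agent.Nodes.ClsNorm Cfsg.Agent.Nodes.ChartLoc Cfsg.Agent.Nodes.Frame

section SL

variable {F : Type*} [Field F] [Fintype F]

open Cfsg.Agent.Lib.SL2Mat

/-- An element of `SL₂(q)`, `q ≡ 3 (4)`, with square `-1` does not normalise a Sylow `p`-subgroup. -/
theorem no_sqrt {G : Type*} [Group G] {K : Subgroup G} (e : Matrix.SpecialLinearGroup (Fin 2) F ≃* K)
    (hF : Fintype.card F % 4 = 3) {c : G} (hc : c ∈ K) (hcc : c * c = e (-1))
    (hn : cj c (Cit.ParabSL2.root e) = Cit.ParabSL2.root e) : False := by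
  obtain ⟨A, hA⟩ := e.surjective ⟨c, hc⟩
  have hA' : ((e A : K) : G) = c := congrArg Subtype.val hA
  have h1 : ((e (up 1) : K) : G) ∈ Cit.ParabSL2.root e := Cit.ParabSL2.mem_root.2 ⟨1, rfl⟩
  have h2 : c * ((e (up 1) : K) : G) * c⁻¹ ∈ cj c (Cit.ParabSL2.root e) := conj_mem_cj.2 h1
  rw [hn] at h2
  obtain ⟨t, ht⟩ := Cit.ParabSL2.mem_root.1 h2
  have h3 : A * up 1 = up t * A := by
    apply e.injective
    apply Subtype.ext
    rw [map_mul, map_mul, Subgroup.coe_mul, Subgroup.coe_mul, hA', ht]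
    group
  have h4 : A * A = -1 := by
    apply e.injective
    apply Subtype.ext
    rw [map_mul, Subgroup.coe_mul, hA', hcc]
  have e1 := congrArg (fun M => ent M 1 1) h3
  have e2 := congrArg (fun M => ent M 0 0) h4
  simp only [ent_mul, up_01, up_11, up_10] at e1 e2
  have e3 : ent A 1 0 = 0 := by
    have : ent A 1 0 * 1 + ent A 1 1 * 1 = 0 * ent A 0 1 + 1 * ent A 1 1 := e1
    linear_combination this
  have e4 : ent (-1 : Matrix.SpecialLinearGroup (Fin 2) F) 0 0 = -1 := rfl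
  rw [e3, e4, mul_zero, add_zero] at e2
  have h5 : IsSquare (-1 : F) := ⟨ent A 0 0, e2.symm⟩
  rw [FiniteField.isSquare_neg_one_iff] at h5
  exact h5 hF

/-- The condition for `p = 3`. -/
theorem h3_of_sl {G : Type*} [Group G] [Finite G] {K X : Subgroup G} (e : Matrix.SpecialLinearGroup (Fin 2) F ≃* K)
    (hX : X = Cit.ParabSL2.root e) {z : G} (hz : z = e (-1)) [CharP F 3] :
    (∀ c ∈ K, c * c = z → cj c X ≠ X) ∨ ∃ B ≤ K, IsPGroup 2 B ∧ 16 ≤ Nat.card B := by
  by_cases hF : Fintype.card F % 4 = 3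
  · left
    intro c hc hcc hn
    rw [hX] at hn
    exact no_sqrt e hF hc (hcc.trans hz) hn
  · right
    have : Fact (Nat.Prime 3) := ⟨Nat.prime_three⟩
    have : Fact (Nat.Prime 2) := ⟨Nat.prime_two⟩
    obtain ⟨n, -, hn⟩ := FiniteField.card F 3
    have h1 : Even (n : ℕ) := by
      by_contra hodd
      rw [Nat.not_even_iff_odd] at hodd
      obtain ⟨k, hk⟩ := hodd
      apply hF
      rw [hn, hk, pow_succ, pow_mul, Nat.mul_mod, Nat.pow_mod]
      norm_num
    obtain ⟨k, hk⟩ := h1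
    have h2 : 16 ∣ Nat.card K := by
      rw [← Nat.card_congr e.toEquiv, S0276.card_sl_two hn]
      refine dvd_mul_of_dvd_right ?_ _
      have h3 : (3 ^ (n : ℕ)) ^ 2 = 81 ^ k := by
        rw [← pow_mul, hk, show (81 : ℕ) = 3 ^ 4 by norm_num, ← pow_mul]
        congr 1; ring
      rw [h3]
      have h4 : (81 - 1) ∣ 81 ^ k - 1 := by simpa only [_root_.Nat.add_one_sub_one, _root_.one_pow] using Nat.sub_dvd_pow_sub_pow 81 1 k
      exact dvd_trans (by norm_num) h4
    obtain ⟨B, hB⟩ := Sylow.exists_subgroup_card_pow_prime (G := K) 2 (n := 4) (by norm_num only []; exact h2)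
    refine ⟨B.map K.subtype, map_subtype_le B, (IsPGroup.of_card hB).map _, ?_⟩
    rw [card_map_of_injective K.subtype_injective, hB]
    norm_num

end SL

variable {I W Y : Type*} [Fintype I] [DecidableEq I] [Group W] [Fintype W] [Group Y] {M : CoxeterMatrix I}
  {cs : CoxeterSystem M W} {A : I → I → ℤ} {h : IsCartan M A} {p : ℕ} {T : Subgroup Y} {n : I → Y}
  {X : (I → ℤ) → Subgroup Y} {R : Set (I → ℤ)} {Z : (I → ℤ) → Subgroup Y} {z : (I → ℤ) → Y}
  (C : Cls cs h p T n X R Z z)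

include C

/-- a pair of conjugates of classical root groups: equal, a `p`-group, or opposite. -/
theorem frm_of_cls [Fact p.Prime] (hp2 : p ≠ 2) (hG : GG cs h T X = ⊤) {r : I → ℤ} (hr : r ∈ R) (hd : Dom A r)
    (htr : ∀ s ∈ R, ∃ w : W, s = rep cs h w r) (hz1 : z r ≠ 1)
    (hone : ∀ c ∈ Z r ⊔ Z (-r), c * c = 1 → c ≠ 1 → c = z r) :
    Frm p (Z r) (Z (-r)) (VV cs h X r) (z r) := by
  have hcls : ∀ g : Y, IsCls cs h T X R Z (cj g (Z r)) := fun g => ⟨r, hr, g, by rw [hG]; trivial, rfl⟩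
  have hcls1 : IsCls cs h T X R Z (Z r) := ⟨r, hr, 1, one_mem _, by rw [cj_one]⟩
  have hvn : ∀ v ∈ VV cs h X r, v ∈ normalizer (Z r : Set Y) := by
    intro v hv
    refine centralizer_le_normalizer' _ ?_
    rw [mem_centralizer_iff]
    exact fun c hc => VV_comm C hr hc hv
  refine
    { pX := (C.rgd.pgrp' (C.root r hr)).to_le (C.le r hr)
      pV := isPGroup_VV C r
      comm := fun v hv x hx => (VV_comm C hr hx hv).symm
      ti := ?_
      tri := ?_
      vz := fun v hv => comm_mem_VV C hr (by rw [hG]; trivial) (hvn v hv)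
      cz := fun v hv hc => mem_Z_of_commute C hp2 hr hv hc
      z_mem := C.z_mem r hr
      z_sq := C.z_sq r hr
      z_ne := hz1
      uniq := hone }
  · rintro g ⟨a, ha, ha1, hga⟩
    obtain ⟨r', hr', -, s, hs, g', -, e1, e2⟩ := exists_pair C hcls1 (hcls g)
    have h1 : r' = s := by
      by_contra hne
      have h2 := X_inf_X C.rgd (C.root r' hr') (C.root s hs) hne
      have h3 : g * a * g⁻¹ ∈ cj g (Z r) := conj_mem_cj.2 ha
      rw [e1, mem_cj] at hga
      rw [e2, mem_cj] at h3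
      have h4 : g'⁻¹ * (g * a * g⁻¹) * g' ∈ X r' ⊓ X s := ⟨C.le r' hr' hga, C.le s hs h3⟩
      rw [h2, mem_bot] at h4
      apply ha1
      calc a = g⁻¹ * (g' * (g'⁻¹ * (g * a * g⁻¹) * g') * g'⁻¹) * g := by group
        _ = 1 := by rw [h4]; group
    rw [e2, ← h1, ← e1]
  · intro g
    by_cases hp : IsPGroup p ↥(Z r ⊔ cj g (Z r))
    · exact Or.inr (Or.inl hp)
    right; right
    obtain ⟨r', hr', hd', g', hg', e1, e2⟩ := exists_opp C hcls1 (hcls g) hp
    have h1 : r' = r := by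
      obtain ⟨w, rfl⟩ := htr r' hr'
      exact Cfsg.Agent.Nodes.BlockRoots.eq_of_dom cs h hd hd'
    rw [h1] at e1 e2
    have h2 : g' ∈ PJ cs h T X (orth cs h r) := by
      rw [← normalizer_inf_GG C hr hd]
      exact ⟨mem_normalizer_iff_cj.2 e1.symm, hg'⟩
    obtain ⟨l, hl, v, hv, rfl⟩ := (mem_PJ C.rgd).1 h2
    refine ⟨l * v * l⁻¹, ?_, ?_⟩
    · rw [VV_eq_VJ hd]
      exact (mem_normalizer_iff.1 (LJ_le_normalizer_VJ C.rgd _ hl) v).1 hv
    · have h3 : cj l⁻¹ (Z (-r)) = Z (-r) := by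
        have h4 := mem_normalizer_iff_cj.1 ((LJ_le_normalizer C hr hd hl).2)
        conv_lhs => rw [← h4]
        rw [cj_inv_cj]
      rw [e2]
      conv_lhs => rw [← h3]
      rw [← cj_mul]

/-- **`Wand` from classical root groups.** -/
theorem wand_of_cls [Finite Y] {F : Type*} [Field F] [Fintype F] [CharP F p] [Fact p.Prime] (hp2 : p ≠ 2)
    (hG : GG cs h T X = ⊤) {r : I → ℤ} (hr : r ∈ R) (htr : ∀ s ∈ R, ∃ w : W, s = rep cs h w r) (hz1 : z r ≠ 1)
    (e : Matrix.SpecialLinearGroup (Fin 2) F ≃* ↥(Z r ⊔ Z (-r))) {u t : Y} (hu : u ∈ Z r) (hu1 : u ≠ 1)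
    (ht : t ∈ T) (htu : t * u * t⁻¹ = u⁻¹) : Wand Y := by
  -- it is enough to treat dominant roots
  have key : ∀ r ∈ R, Dom A r → (∀ s ∈ R, ∃ w : W, s = rep cs h w r) → z r ≠ 1 →
      ∀ _ : Matrix.SpecialLinearGroup (Fin 2) F ≃* ↥(Z r ⊔ Z (-r)), ∀ u ∈ Z r, u ≠ 1 → ∀ t : Y,
        t * u * t⁻¹ = u⁻¹ → cj t (Z r ⊔ Z (-r)) = Z r ⊔ Z (-r) → Wand Y := by
    intro r hr hd htr hz1 e u hu hu1 t htu htK
    have h2F : (2 : F) ≠ 0 := by
      have h3 : ¬ (p ∣ 2) := fun h4 => hp2 ((Nat.prime_dvd_prime_iff_eq Fact.out Nat.prime_two).1 h4)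
      intro h4
      apply h3
      rw [← CharP.cast_eq_zero_iff F p]
      exact_mod_cast h4
    have hone : ∀ c ∈ Z r ⊔ Z (-r), c * c = 1 → c ≠ 1 → c = ((e (-1) : ↥(Z r ⊔ Z (-r))) : Y) := by
      intro c hc h1 h2
      obtain ⟨x, hx⟩ := e.surjective ⟨c, hc⟩
      have h3 : x = -1 := by
        apply Cit.LongConj.eq_neg_one h2F
        · apply e.injective
          rw [map_mul, hx, map_one]
          exact Subtype.ext h1
        · intro h4
          apply h2
          rw [h4, map_one] at hx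
          exact (congrArg Subtype.val hx).symm
      rw [← h3, hx]
    have hzr : z r = ((e (-1) : ↥(Z r ⊔ Z (-r))) : Y) := hone _ (C.z_mem r hr) (C.z_sq r hr) hz1
    have F' := frm_of_cls C hp2 hG hr hd htr hz1 (by rw [hzr]; exact hone)
    refine F'.wand hp2 hu hu1 t htu htK ?_
    intro hp3
    subst hp3
    obtain ⟨e₁, h1⟩ := exists_root_ge e (le_sup_left : Z r ≤ Z r ⊔ Z (-r)) ((C.rgd.pgrp' (C.root r hr)).to_le (C.le r hr))
    have h2 : Z r = Cit.ParabSL2.root e₁ := by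
      have : Finite ↥(Cit.ParabSL2.root e₁) := Nat.finite_of_card_ne_zero (by
        rw [Cit.ParabSL2.card_root]; exact Fintype.card_ne_zero)
      exact eq_of_le_of_card_ge h1 (by rw [Cit.ParabSL2.card_root, card_Z C hp2 hr e])
    refine h3_of_sl e₁ h2 ?_
    rw [hzr]
    have h3 : e (-1) = e₁ (-1) := by
      obtain ⟨x, hx⟩ := e₁.surjective (e (-1))
      rw [← hx]
      congr 1
      apply Cit.LongConj.eq_neg_one h2F
      · apply e₁.injective
        rw [map_mul, hx, map_one, ← map_mul]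
        have : (-1 : Matrix.SpecialLinearGroup (Fin 2) F) * -1 = 1 := Cit.ParabSL2.neg_one_eq
        rw [this, map_one]
      · intro h4
        rw [h4, map_one] at hx
        apply hz1
        rw [hzr, ← hx]
        rfl
    rw [h3]
  obtain ⟨w, hw⟩ := exists_dominant (cs := cs) (h := h) r
  obtain ⟨k, hk⟩ := exists_rp cs C.rgd.nsys w
  have e1 := conj_Z C hk hr
  have e2 := conj_Z C hk (_root_.Cfsg.Agent.Nodes.ClsNorm.neg_mem C hr)
  rw [map_neg] at e2
  have e3 := conj_z C hk hr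
  have e4 : cj k (Z r ⊔ Z (-r)) = Z (rep cs h w r) ⊔ Z (-rep cs h w r) := by rw [cj_sup, e1, e2]
  refine key _ (C.act r hr w) hw ?_ ?_ ((e.trans ((Z r ⊔ Z (-r)).equivMapOfInjective (MulAut.conj k).toMonoidHom
    (MulAut.conj k).injective)).trans (MulEquiv.subgroupCongr e4)) (k * u * k⁻¹) ?_ ?_ (k * t * k⁻¹) ?_ ?_
  · intro s hs
    obtain ⟨w', rfl⟩ := htr s hs
    exact ⟨w' * w⁻¹, by rw [rep_mul_apply, rep_inv_apply]⟩
  · rw [← e3]
    intro h1
    apply hz1
    calc z r = k⁻¹ * (k * z r * k⁻¹) * k := by group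
      _ = 1 := by rw [h1]; group
  · rw [← e1]; exact conj_mem_cj.2 hu
  · intro h1
    apply hu1
    calc u = k⁻¹ * (k * u * k⁻¹) * k := by group
      _ = 1 := by rw [h1]; group
  · calc k * t * k⁻¹ * (k * u * k⁻¹) * (k * t * k⁻¹)⁻¹ = k * (t * u * t⁻¹) * k⁻¹ := by group
      _ = (k * u * k⁻¹)⁻¹ := by rw [htu]; group
  · rw [← e4, ← cj_mul]
    have h1 : k * t * k⁻¹ * k = k * t := by group
    rw [h1, cj_mul, cj_sup, C.tor r hr t ht, C.tor _ (_root_.Cfsg.Agent.Nodes.ClsNorm.neg_mem C hr) t ht]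

/-- `Wand` if there are two classical roots which are not orthogonal. -/
theorem wand_of_cls_pair [Finite Y] {F : Type*} [Field F] [Fintype F] [CharP F p] [Fact p.Prime] (hp2 : p ≠ 2)
    (hG : GG cs h T X = ⊤) {r s : I → ℤ} (hr : r ∈ R) (hs : s ∈ R) (htr : ∀ s ∈ R, ∃ w : W, s = rep cs h w r)
    (h1 : r ≠ s) (h2 : r ≠ -s) (h3 : form cs h r s ≠ 0)
    (e : Matrix.SpecialLinearGroup (Fin 2) F ≃* ↥(Z r ⊔ Z (-r))) : Wand Y := by
  obtain ⟨u, hu, hu1⟩ : ∃ u ∈ Z r, u ≠ 1 := by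
    by_contra hcon
    push Not at hcon
    exact C.ne_bot r hr ((eq_bot_iff_forall _).2 hcon)
  have hinv := C.z_inv s hs r (C.root r hr) h1 h2 h3 u (C.le r hr hu)
  have hsq := C.z_sq s hs
  have hzinv : (z s)⁻¹ = z s := inv_eq_of_mul_eq_one_left hsq
  -- `z r ≠ 1`
  have hz1 : z r ≠ 1 := by
    obtain ⟨v, hv, hv1⟩ : ∃ u ∈ Z s, u ≠ 1 := by
      by_contra hcon
      push Not at hcon
      exact C.ne_bot s hs ((eq_bot_iff_forall _).2 hcon)
    have h4 := C.z_inv r hr s (C.root s hs) (Ne.symm h1) (fun h5 => h2 (by rw [h5, neg_neg]))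
      (by rw [form_comm]; exact h3) v (C.le s hs hv)
    intro h5
    rw [h5, one_mul, mul_one] at h4
    have h6 := odd_of_mem_X C hp2 (C.root s hs) (C.le s hs hv)
    have h7 : v ^ 2 = 1 := by
      rw [pow_two]; nth_rewrite 1 [h4]; exact inv_mul_cancel v
    have h8 := orderOf_dvd_of_pow_eq_one h7
    rcases (Nat.dvd_prime Nat.prime_two).1 h8 with h9 | h9
    · exact hv1 (orderOf_eq_one_iff.1 h9)
    · rw [h9] at h6; exact absurd h6 (by decide)
  exact wand_of_cls C hp2 hG hr htr hz1 e hu hu1 (C.z_torus s hs) (by rw [hzinv]; exact hinv)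

end Cfsg.Agent.H132
end
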