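import Cfsg.Agent.H132.Central_m3
import Cfsg.Agent.H611.PslTwo
import Cfsg.Agent.H991.PermThree
import Cfsg.Agent.H991.QuatQuot
import Cfsg.Agent.GH.L3S.Parity
import Cfsg.Agent.S0243
import Cfsg.Agent.H132.FrmCls
import Cfsg.Agent.Nodes.ChartTypeA
import Cfsg.Prelude.Def_LieTypeChar
import Cfsg.Agent.Prune
set_option linter.all false
prune_inst 0x7f00000000000000000000000000000000000000000000000000000000000000000000000000000000000000000000000000000000000000000000000000000000000000000000000000000000000000003fffffffffffffffffffffffffffbeffbdffffffff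
open scoped Cfsg.Agent.FastGrp

-- part: H805/WandPsl2
section
/-!
# `PSL(2, q)`, `q > 3` odd, has a real element of odd order normalising no Sylow 2-subgroup
-/

set_option autoImplicit false

namespace Cfsg.Agent.H805.WandPsl2

open Subgroup Cfsg.Agent.H132 Cfsg.Agent.H611.PslTwo

section General

variable {G : Type*} [Group G] [Finite G]

/-- A Sylow 2-subgroup without automorphisms of odd order. -/
theorem wand_of_noOdd (P : Sylow 2 G) (hP : ¬ (P : Subgroup G).Normal)
    (h : Cfsg.Agent.GH.L3S.Parity.NoOdd (P : Subgroup G)) : Wand G := by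
  apply wand_of_trivial P hP
  intro x hx ho hr
  by_contra hne
  apply not_le_centralizer ho hr hne P
  have h1 : (P : Subgroup G).normalizerMonoidHom ⟨x, hx⟩ = 1 := by
    apply h _ (orderOf x) ho
    rw [← map_pow]
    have : (⟨x, hx⟩ : normalizer ((P : Subgroup G) : Set G)) ^ orderOf x = 1 := by
      apply Subtype.ext
      exact pow_orderOf_eq_one x
    rw [this, map_one]
  intro y hy
  rw [mem_centralizer_singleton_iff]
  have h2 := congrArg Subtype.val (DFunLike.congr_fun h1 ⟨y, hy⟩)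
  change x * y * x⁻¹ = y at h2
  exact (mul_inv_eq_iff_eq_mul.1 h2).symm

/-- The cube of an automorphism of odd order of a group with at most four elements. -/
theorem cube_eq_one {Q : Type*} [Group Q] [Finite Q] (hQ : Nat.card Q ∣ 4) (α : MulAut Q) {m : ℕ}
    (hm : Odd m) (h : α ^ m = 1) : α ^ 3 = 1 := by
  classical
  have hfin : Fintype Q := Fintype.ofFinite Q
  have hS : Nat.card {y : Q // y ≠ 1} ≤ 3 := by
    have h1 := Nat.le_of_dvd (by norm_num) hQ
    rw [Nat.card_eq_fintype_card, Fintype.card_subtype_compl, Fintype.card_subtype_eq, ← Nat.card_eq_fintype_card]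
    omega
  have h6 : Nat.card (Equiv.Perm {y : Q // y ≠ 1}) ∣ 6 := by
    rw [Nat.card_perm]
    exact Nat.factorial_dvd_factorial hS
  have hne : ∀ (β : MulAut Q) (y : Q), y ≠ 1 ↔ β y ≠ 1 := fun β y => by
    rw [Ne, Ne, EmbeddingLike.map_eq_one_iff]
  have key : α ^ 6 = 1 := by
    let f : MulAut Q →* Equiv.Perm {y : Q // y ≠ 1} :=
      { toFun := fun β => (MulAut.toPerm Q β).subtypePerm (fun y => (hne β y).symm)
        map_one' := by ext y; rfl
        map_mul' := fun β γ => by ext y; rfl }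
    have hf : Function.Injective f := by
      intro β γ hβγ
      ext y
      by_cases hy : y = 1
      · rw [hy, map_one, map_one]
      · exact congrArg Subtype.val (Equiv.congr_fun hβγ ⟨y, hy⟩)
    apply hf
    rw [map_pow, map_one]
    obtain ⟨c, hc⟩ := h6
    rw [hc, pow_mul, pow_card_eq_one', one_pow]
  have h1 : orderOf α ∣ 6 := orderOf_dvd_of_pow_eq_one key
  have h2 : orderOf α ∣ m := orderOf_dvd_of_pow_eq_one h
  have h3 : Nat.Coprime (orderOf α) 2 := (Nat.coprime_two_right.2 (hm.of_dvd_nat h2))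
  exact orderOf_dvd_iff_pow_eq_one.1 (h3.dvd_of_dvd_mul_left (by simpa using h1))

/-- Sylow 2-subgroups of order dividing four. -/
theorem wand_of_four (h8 : ¬ 8 ∣ Nat.card G) {x : G} (ho : Odd (orderOf x)) (hr : IsConj x x⁻¹)
    (h3 : x ^ 3 ≠ 1) : Wand G := by
  have h2 : Fact (Nat.Prime 2) := ⟨Nat.prime_two⟩
  refine ⟨x, ho, hr, fun Q hQ => ?_⟩
  have ho3 : Odd (orderOf (x ^ 3)) := ho.of_dvd_nat (orderOf_pow_dvd 3)
  have hr3 : IsConj (x ^ 3) (x ^ 3)⁻¹ := by
    obtain ⟨c, hc⟩ := isConj_iff.1 hr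
    refine isConj_iff.2 ⟨c, ?_⟩
    rw [← inv_pow, ← hc, conj_pow]
  apply not_le_centralizer ho3 hr3 h3 Q
  have hcard : Nat.card (Q : Subgroup G) ∣ 4 := by
    rw [Sylow.card_eq_multiplicity]
    apply Nat.pow_dvd_pow 2 (m := _) (n := 2)
    by_contra hlt
    push Not at hlt
    exact h8 ((Nat.pow_dvd_pow 2 hlt).trans (Nat.ordProj_dvd _ _))
  have h1 : (Q : Subgroup G).normalizerMonoidHom ⟨x, hQ⟩ ^ 3 = 1 := by
    apply cube_eq_one hcard _ ho
    rw [← map_pow]
    have : (⟨x, hQ⟩ : normalizer ((Q : Subgroup G) : Set G)) ^ orderOf x = 1 := by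
      apply Subtype.ext
      exact pow_orderOf_eq_one x
    rw [this, map_one]
  rw [← map_pow] at h1
  intro y hy
  rw [mem_centralizer_singleton_iff]
  have h2 := congrArg Subtype.val (DFunLike.congr_fun h1 ⟨y, hy⟩)
  change x ^ 3 * y * (x ^ 3)⁻¹ = y at h2
  exact (mul_inv_eq_iff_eq_mul.1 h2).symm

end General

section Psl



variable {F : Type*} [Field F]

theorem dg_pow {a : F} (ha : a ≠ 0) (n : ℕ) : (dg a ha) ^ n = dg (a ^ n) (pow_ne_zero n ha) := by
  induction n with
  | zero =>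
    rw [ext_iff', pow_zero]
    obtain ⟨o1, o2, o3, o4⟩ := one_entries (F := F)
    rw [o1, o2, o3, o4, dg00, dg01, dg10, dg11]
    simp
  | succ n ih =>
    rw [pow_succ, ih, ext_iff']
    simp only [H611.PslTwo.mul_apply', dg00, dg01, dg10, dg11]
    refine ⟨by ring, by ring, by ring, ?_⟩
    rw [mul_zero, zero_add, ← mul_inv, pow_succ]

theorem mk_dg_eq_one {a : F} (ha : a ≠ 0) :
    (QuotientGroup.mk (dg a ha) : Matrix.ProjectiveSpecialLinearGroup (Fin 2) F) = 1 → a ^ 2 = 1 := by
  intro h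
  rw [QuotientGroup.eq_one_iff, Matrix.SpecialLinearGroup.mem_center_iff] at h
  obtain ⟨r, -, h3⟩ := h
  have e1 : r = a := by
    have := congrFun (congrFun h3 0) 0
    simpa [Matrix.scalar_apply, dg] using this
  have e2 : r = a⁻¹ := by
    have := congrFun (congrFun h3 1) 1
    simpa [Matrix.scalar_apply, dg] using this
  rw [pow_two]
  nth_rewrite 2 [← e1]
  rw [e2, mul_inv_cancel₀ ha]

theorem real_dg {a : F} (ha : a ≠ 0) :
    IsConj (QuotientGroup.mk (dg a ha) : Matrix.ProjectiveSpecialLinearGroup (Fin 2) F)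
      (QuotientGroup.mk (dg a ha))⁻¹ := by
  refine isConj_iff.2 ⟨QuotientGroup.mk wl, ?_⟩
  rw [← QuotientGroup.mk_inv, ← QuotientGroup.mk_inv, ← QuotientGroup.mk_mul,
    ← QuotientGroup.mk_mul]
  congr 1
  obtain ⟨i1, i2, i3, i4⟩ := inv_entries (dg a ha)
  rw [mul_inv_eq_iff_eq_mul, ext_iff']
  simp only [H611.PslTwo.mul_apply', i1, i2, i3, i4, dg00, dg01, dg10, dg11, wl00, wl01, wl10, wl11]
  refine ⟨by ring, by ring, by ring, by ring⟩

theorem up_pow (n : ℕ) : (up (1 : F)) ^ n = up (n : F) := by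
  induction n with
  | zero =>
    obtain ⟨o1, o2, o3, o4⟩ := one_entries (F := F)
    rw [ext_iff', pow_zero, o1, o2, o3, o4, up00, up01, up10, up11]
    simp
  | succ n ih =>
    rw [pow_succ, ih, ext_iff']
    simp only [H611.PslTwo.mul_apply', up00, up01, up10, up11]
    push_cast
    refine ⟨by ring, by ring, by ring, by ring⟩

theorem mk_up_eq_one {b : F} :
    (QuotientGroup.mk (up b) : Matrix.ProjectiveSpecialLinearGroup (Fin 2) F) = 1 → b = 0 := by
  intro h
  rw [QuotientGroup.eq_one_iff, Matrix.SpecialLinearGroup.mem_center_iff] at h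
  obtain ⟨r, -, h3⟩ := h
  have := congrFun (congrFun h3 0) 1
  simpa [Matrix.scalar_apply, up, eq_comm] using this

theorem real_up {i : F} (hi : i ^ 2 = -1) :
    IsConj (QuotientGroup.mk (up (1 : F)) : Matrix.ProjectiveSpecialLinearGroup (Fin 2) F)
      (QuotientGroup.mk (up (1 : F)))⁻¹ := by
  have hi0 : i ≠ 0 := by
    rintro rfl
    simp at hi
  refine isConj_iff.2 ⟨QuotientGroup.mk (dg i hi0), ?_⟩
  rw [← QuotientGroup.mk_inv, ← QuotientGroup.mk_inv, ← QuotientGroup.mk_mul,
    ← QuotientGroup.mk_mul]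
  congr 1
  have hii : i⁻¹ = -i := by
    apply inv_eq_of_mul_eq_one_right
    linear_combination -hi
  obtain ⟨i1, i2, i3, i4⟩ := inv_entries (up (1 : F))
  rw [mul_inv_eq_iff_eq_mul, ext_iff']
  simp only [H611.PslTwo.mul_apply', i1, i2, i3, i4, dg00, dg01, dg10, dg11, up00, up01, up10, up11, hii]
  refine ⟨by ring, by ring, by ring, by ring⟩

/-- The order of `PSL(2, q)` for odd `q`. -/
theorem two_mul_card [Fintype F] (h2 : Odd (Fintype.card F)) :
    2 * Nat.card (Matrix.ProjectiveSpecialLinearGroup (Fin 2) F) =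
      Fintype.card F * (Fintype.card F ^ 2 - 1) := by
  have h1 := Cfsg.Agent.S0243.result (F := F) rfl 2 le_rfl
  rw [Fin.prod_univ_two] at h1
  have h1lt : 1 < Fintype.card F := Fintype.one_lt_card
  obtain ⟨k, hk⟩ := h2
  have h2 : Nat.gcd 2 (Fintype.card F - 1) = 2 := Nat.gcd_eq_left (by omega)
  rw [h2] at h1
  set q := Fintype.card F with hq
  obtain ⟨m, hm⟩ : ∃ m, q = m + 1 := ⟨q - 1, by omega⟩
  have h3 : q ^ 2 - q ^ 1 = (q - 1) * q := by
    rw [hm, Nat.add_sub_cancel, Nat.sub_eq_iff_eq_add (by nlinarith only [])]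
    ring
  have h4 : q ^ 2 - q ^ ((0 : Fin 2) : ℕ) = q ^ 2 - 1 := by simp only [_root_.Fin.isValue, _root_.Fin.coe_ofNat_eq_mod, _root_.Nat.zero_mod, _root_.pow_zero]
  have h5 : q ^ 2 - q ^ ((1 : Fin 2) : ℕ) = (q - 1) * q := by
    rw [← h3]; simp
  rw [h4, h5] at h1
  apply Nat.eq_of_mul_eq_mul_left (show 0 < q - 1 by omega)
  linear_combination h1

/-- **`PSL(2, q)`, `q > 3` odd.** -/
theorem wand_psl2 {F : Type*} [Field F] [Fintype F] (h2 : Odd (Fintype.card F))
    (h3 : 3 < Fintype.card F) : Wand (Matrix.ProjectiveSpecialLinearGroup (Fin 2) F) := by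
  classical
  have hF2 : Fact (Nat.Prime 2) := ⟨Nat.prime_two⟩
  have hfin : Finite (Matrix.ProjectiveSpecialLinearGroup (Fin 2) F) :=
    inferInstanceAs (Finite (_ ⧸ _))
  have hsimp : IsSimpleGroup (Matrix.ProjectiveSpecialLinearGroup (Fin 2) F) :=
    Matrix.ProjectiveSpecialLinearGroup.rank_two_simple (by rw [Nat.card_eq_fintype_card]; exact h3)
  have hcard := two_mul_card (F := F) h2
  have h20 : (2 : F) ≠ 0 := by
    intro h
    have hchar : CharP F 2 := CharTwo.of_one_ne_zero_of_two_eq_zero one_ne_zero h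
    have h1 := FiniteField.even_card_iff_char_two (F := F)
    have h3 : ringChar F = 2 := ringChar.eq F 2
    have := h1.1 h3
    obtain ⟨k, hk⟩ := h2
    omega
  by_cases h16 : 16 ∣ Fintype.card F ^ 2 - 1
  · -- dihedral Sylow subgroups of order at least eight
    obtain ⟨S⟩ : Nonempty (Sylow 2 (Matrix.ProjectiveSpecialLinearGroup (Fin 2) F)) := inferInstance
    obtain ⟨k, hk, ⟨e⟩⟩ := Cfsg.Agent.H991.psl2_dihedral h2 S
    have h8 : 8 ∣ Nat.card (Matrix.ProjectiveSpecialLinearGroup (Fin 2) F) := by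
      obtain ⟨c, hc⟩ := h16
      rw [hc] at hcard
      exact ⟨Fintype.card F * c, by linarith only [hcard]⟩
    have h8S : 8 ∣ Nat.card (S : Subgroup (Matrix.ProjectiveSpecialLinearGroup (Fin 2) F)) :=
      S.pow_dvd_card_of_pow_dvd_card (n := 3) h8
    have hSn : ¬ (S : Subgroup (Matrix.ProjectiveSpecialLinearGroup (Fin 2) F)).Normal := by
      intro hn
      rcases hn.eq_bot_or_eq_top with hb | ht
      · rw [hb, card_bot] at h8S
        omega
      · obtain ⟨n, hn'⟩ := IsPGroup.iff_card.1 S.2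
        have h5 := Cfsg.Agent.H991.three_dvd_psl2 F
        rw [ht, card_top] at hn'
        rw [hn'] at h5
        have := (Nat.prime_dvd_prime_iff_eq Nat.prime_three Nat.prime_two).1
          (Nat.prime_three.dvd_of_dvd_pow h5)
        omega
    apply wand_of_noOdd S hSn
    rw [Nat.card_congr e.toEquiv, DihedralGroup.nat_card] at h8S
    have hk4 : 4 ≤ 2 ^ k := by
      have := Nat.le_of_dvd (by positivity) h8S
      omega
    have hp : IsPGroup 2 (DihedralGroup (2 ^ k)) := S.isPGroup'.of_equiv e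
    exact Cfsg.Agent.GH.L3S.Parity.NoOdd.congr e.symm
      (Cfsg.Agent.GH.L3S.Parity.noOdd_dihedral hk4 hp)
  · -- Sylow subgroups of order four
    have h8 : ¬ 8 ∣ Nat.card (Matrix.ProjectiveSpecialLinearGroup (Fin 2) F) := by
      rintro ⟨c, hc⟩
      apply h16
      have h5 : 16 ∣ Fintype.card F * (Fintype.card F ^ 2 - 1) := ⟨c, by rw [← hcard, hc]; ring⟩
      have h6 : Nat.Coprime 16 (Fintype.card F) := by
        have : Nat.Coprime (2 ^ 4) (Fintype.card F) := Nat.Coprime.pow_left 4 (Nat.coprime_two_left.2 h2)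
        simpa using this
      exact h6.dvd_of_dvd_mul_left h5
    have hmod : Fintype.card F % 8 = 3 ∨ Fintype.card F % 8 = 5 := by
      obtain ⟨k, hk⟩ := h2
      by_contra hcon
      apply h16
      have h5 : Fintype.card F % 8 = 1 ∨ Fintype.card F % 8 = 7 := by omega
      rcases h5 with h5 | h5
      · obtain ⟨j, hj⟩ : ∃ j, Fintype.card F = 8 * j + 1 := ⟨Fintype.card F / 8, by omega⟩
        refine ⟨4 * j ^ 2 + j, ?_⟩
        rw [hj]
        have : (8 * j + 1) ^ 2 = 16 * (4 * j ^ 2 + j) + 1 := by ring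
        omega
      · obtain ⟨j, hj⟩ : ∃ j, Fintype.card F = 8 * j + 7 := ⟨Fintype.card F / 8, by omega⟩
        refine ⟨4 * j ^ 2 + 7 * j + 3, ?_⟩
        rw [hj]
        have : (8 * j + 7) ^ 2 = 16 * (4 * j ^ 2 + 7 * j + 3) + 1 := by ring
        omega
    rcases hmod with hmod | hmod
    · -- `q ≡ 3 mod 8`
      obtain ⟨g, hg⟩ := IsCyclic.exists_generator (α := Fˣ)
      have hord : orderOf g = Fintype.card F - 1 := by
        rw [orderOf_eq_card_of_forall_mem_zpowers hg, Nat.card_eq_fintype_card,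
          Fintype.card_units]
      have ha0 : ((g ^ 2 : Fˣ) : F) ≠ 0 := Units.ne_zero _
      have ham : ((g ^ 2 : Fˣ) : F) ^ ((Fintype.card F - 1) / 2) = 1 := by
        rw [← Units.val_pow_eq_pow_val, ← pow_mul,
          show 2 * ((Fintype.card F - 1) / 2) = Fintype.card F - 1 by omega, ← hord,
          pow_orderOf_eq_one, Units.val_one]
      have hodd : Odd ((Fintype.card F - 1) / 2) := by
        rw [Nat.odd_iff]
        omega
      apply wand_of_four h8 (x := QuotientGroup.mk (dg ((g ^ 2 : Fˣ) : F) ha0)) _ (real_dg ha0)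
      · intro h
        rw [← QuotientGroup.mk_pow, dg_pow] at h
        have h5 := mk_dg_eq_one _ h
        rw [← Units.val_pow_eq_pow_val, ← Units.val_pow_eq_pow_val, ← pow_mul, ← pow_mul,
          Units.val_eq_one] at h5
        have h6 := orderOf_dvd_of_pow_eq_one h5
        rw [hord] at h6
        have h7 := Nat.le_of_dvd (by norm_num) h6
        have h8 : Fintype.card F = 11 := by omega
        rw [h8] at h6
        omega
      · apply hodd.of_dvd_nat
        apply orderOf_dvd_of_pow_eq_one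
        rw [← QuotientGroup.mk_pow, dg_pow]
        have : dg (((g ^ 2 : Fˣ) : F) ^ ((Fintype.card F - 1) / 2)) (pow_ne_zero _ ha0) = 1 := by
          obtain ⟨o1, o2, o3, o4⟩ := one_entries (F := F)
          rw [ext_iff', o1, o2, o3, o4, dg00, dg01, dg10, dg11, ham]
          simp
        rw [this, QuotientGroup.mk_one]
    · -- `q ≡ 5 mod 8`
      have hsq : IsSquare (-1 : F) := by
        rw [FiniteField.isSquare_neg_one_iff]
        omega
      obtain ⟨i, hi⟩ := hsq
      obtain ⟨p, hp⟩ := CharP.exists F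
      obtain ⟨m, hpp, hm⟩ := FiniteField.card F p
      have hpodd : Odd p := by
        apply hpp.odd_of_ne_two
        rintro rfl
        apply h20
        exact_mod_cast CharP.cast_eq_zero F 2
      have h30 : (3 : F) ≠ 0 := by
        intro h
        have h5 : p ∣ 3 := (CharP.cast_eq_zero_iff F p 3).1 (by exact_mod_cast h)
        have h6 : p = 3 := (Nat.prime_dvd_prime_iff_eq hpp Nat.prime_three).1 h5
        rw [h6] at hm
        have h7 : ∀ n : ℕ, 3 ^ n % 8 = 1 ∨ 3 ^ n % 8 = 3 := by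
          intro n
          induction n with
          | zero => left; rfl
          | succ n ih => rw [pow_succ]; (clear * - ih; omega)
        have := h7 m
        omega
      apply wand_of_four h8 (x := QuotientGroup.mk (up (1 : F))) _
        (real_up (i := i) (by rw [pow_two]; exact hi.symm))
      · intro h
        rw [← QuotientGroup.mk_pow, up_pow] at h
        exact h30 (by exact_mod_cast mk_up_eq_one h)
      · apply hpodd.of_dvd_nat
        apply orderOf_dvd_of_pow_eq_one
        rw [← QuotientGroup.mk_pow, up_pow, CharP.cast_eq_zero]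
        have : up (0 : F) = 1 := by
          obtain ⟨o1, o2, o3, o4⟩ := one_entries (F := F)
          rw [ext_iff', o1, o2, o3, o4, up00, up01, up10, up11]
          simp
        rw [this, QuotientGroup.mk_one]

end Psl

end Cfsg.Agent.H805.WandPsl2
end

-- part: H132/RowSL
section
/-!
# `Wand` for the groups `PSL_n(q)` of odd characteristic
-/

set_option autoImplicit false
set_option linter.unusedSectionVars false

namespace Cfsg.Agent.H132

open Matrix CoxeterSystem Cfsg.Agent.ChevalleyStructure.CoxeterGeom Cfsg.Agent.Tits.Roots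
open Cfsg.Agent.Nodes Cfsg.Agent.Nodes.Reps Cfsg.Agent.Nodes.BNOf Cfsg.Agent.Nodes.RGDLib Cfsg.Agent.Nodes.RootsA
open Cfsg.Agent.Nodes.RGDTypeA Cfsg.Agent.Nodes.Chart Cfsg.Agent.Nodes.ClsTypeA Cfsg.Agent.Nodes.ChartTypeA
open Cfsg.Agent.LieRecognition.BNCox (cA)

section SL

variable {F : Type*} [Field F] (k : ℕ)

/-- The index equivalence. -/
def eeA : Fin 2 ⊕ Fin k ≃ Fin (k + 2) := finSumFinEquiv.trans (finCongr (by omega))

/-- `SL₂(F)` in the upper corner. -/
def corner : _root_.Matrix.SpecialLinearGroup (Fin 2) F →* _root_.Matrix.SpecialLinearGroup (Fin (k + 2)) F where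
  toFun g := ⟨(fromBlocks g.1 0 0 1 : Matrix (Fin 2 ⊕ Fin k) (Fin 2 ⊕ Fin k) F).submatrix (eeA k).symm (eeA k).symm, by
    rw [det_submatrix_equiv_self, det_fromBlocks_zero₂₁, det_one, mul_one, g.2]⟩
  map_one' := by
    apply Subtype.ext
    show (fromBlocks (1 : Matrix (Fin 2) (Fin 2) F) 0 0 1).submatrix _ _ = 1
    rw [fromBlocks_one, submatrix_one_equiv]
  map_mul' g h := by
    apply Subtype.ext
    show (fromBlocks (g.1 * h.1) 0 0 1).submatrix _ _ = (fromBlocks g.1 0 0 1).submatrix _ _ * (fromBlocks h.1 0 0 1).submatrix _ _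
    rw [submatrix_mul_equiv, fromBlocks_multiply]
    simp only [_root_.Matrix.mul_zero, _root_.add_zero, _root_.Matrix.mul_one, _root_.Matrix.zero_mul, _root_.mul_one, _root_.zero_add]

theorem corner_injective : Function.Injective (corner (F := F) k) := by
  intro g h hgh
  have h1 := congrArg Subtype.val hgh
  have h2 : (fromBlocks g.1 0 0 1 : Matrix (Fin 2 ⊕ Fin k) (Fin 2 ⊕ Fin k) F) = fromBlocks h.1 0 0 1 := by
    have h3 := congrArg (fun M : Matrix (Fin (k + 2)) (Fin (k + 2)) F => M.submatrix (eeA k) (eeA k)) h1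
    change ((fromBlocks g.1 0 0 1 : Matrix (Fin 2 ⊕ Fin k) (Fin 2 ⊕ Fin k) F).submatrix (eeA k).symm (eeA k).symm).submatrix
      (eeA k) (eeA k) = ((fromBlocks h.1 0 0 1 : Matrix (Fin 2 ⊕ Fin k) (Fin 2 ⊕ Fin k) F).submatrix (eeA k).symm
      (eeA k).symm).submatrix (eeA k) (eeA k) at h3
    simpa using h3
  exact Subtype.ext (fromBlocks_inj.1 h2).1

theorem corner_range : (corner (F := F) k).range = blk F (eeA k (Sum.inl 0)) (eeA k (Sum.inl 1)) := by
  ext g
  rw [mem_blk, blk_iff_fromBlocks]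
  constructor
  · rintro ⟨P, rfl⟩
    refine ⟨P.1, ?_⟩
    show ((fromBlocks P.1 0 0 1 : Matrix (Fin 2 ⊕ Fin k) (Fin 2 ⊕ Fin k) F).submatrix (eeA k).symm (eeA k).symm).submatrix
      (eeA k) (eeA k) = _
    simp
  · rintro ⟨P, hP⟩
    have hdet : P.det = 1 := by
      have h1 : (g.1.submatrix (eeA k) (eeA k)).det = 1 := by rw [det_submatrix_equiv_self]; exact g.2
      rw [hP, det_fromBlocks_zero₂₁, det_one, mul_one] at h1
      exact h1
    refine ⟨⟨P, hdet⟩, Subtype.ext ?_⟩
    show (fromBlocks P 0 0 1 : Matrix (Fin 2 ⊕ Fin k) (Fin 2 ⊕ Fin k) F).submatrix (eeA k).symm (eeA k).symm = g.1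
    rw [← hP]
    simp

variable {k}

/-- **`SL_n(q)`, `n ≥ 3`, `q` odd.** -/
theorem wand_sl [Fintype F] {p : ℕ} [CharP F p] (hp2 : p ≠ 2) (hk : 1 ≤ k) :
    Wand (_root_.Matrix.SpecialLinearGroup (Fin (k + 2)) F) := by
  have : Fact p.Prime := ⟨CharP.char_is_prime F p⟩
  have : NeZero (k + 1) := ⟨by omega⟩
  set cs := (cA (k + 1)).toCoxeterSystem with hcs
  have C := ClsTypeA.cls (F := F) (p := p) cs (isCartan (k + 1))
  have hG : Bruhat.GG cs (isCartan (k + 1)) (T (Fin (k + 1 + 1)) F) (X F) = ⊤ := by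
    rw [eq_top_iff, ← G1_eq_top (F := F) cs (isCartan (k + 1))]
    exact le_sup_right
  set a : Fin (k + 1 + 1) := eeA k (Sum.inl 0) with ha
  set b : Fin (k + 1 + 1) := eeA k (Sum.inl 1) with hb
  set c : Fin (k + 1 + 1) := eeA k (Sum.inr ⟨0, hk⟩) with hc
  have hab : a ≠ b := fun h => absurd ((eeA k).injective h) (by simp)
  have hac : a ≠ c := fun h => absurd ((eeA k).injective h) (by simp)
  have hbc : b ≠ c := fun h => absurd ((eeA k).injective h) (by simp)
  have e0 : X F (rtA a b) ⊔ X F (-rtA a b) = (corner (F := F) k).range := by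
    rw [rtA_neg, X_rtA hab, X_rtA hab.symm, sup_XX_eq hab, corner_range]
  have e : _root_.Matrix.SpecialLinearGroup (Fin 2) F ≃* ↥(X F (rtA a b) ⊔ X F (-rtA a b)) :=
    (MonoidHom.ofInjective (corner_injective k)).trans (MulEquiv.subgroupCongr e0.symm)
  refine wand_of_cls_pair C hp2 hG (r := rtA a b) (s := rtA b c) (isRoot_rtA cs _ hab) (isRoot_rtA cs _ hbc)
    (fun s hs => trans cs _ (isRoot_rtA cs _ hab) hs) ?_ ?_ (form_adj_neg cs _ hab hbc hac).ne e
  · intro h
    exact hab (rtA_inj hab h).1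
  · intro h
    rw [rtA_neg] at h
    exact hac (rtA_inj hab h).1

end SL

/-- **`PSL_n(q)`, `q` odd.** -/
theorem wand_isPSLChar {X : Type*} [Group X] {p : ℕ} (hp : p.Prime) (hp2 : p ≠ 2) (h : Cfsg.IsPSLChar p X) : Wand X := by
  obtain ⟨F, _, _, _, n, hn, h4, ⟨e⟩⟩ := h
  have : Fact p.Prime := ⟨hp⟩
  refine Wand.congr e.symm ?_
  rcases hn.eq_or_lt with rfl | hn
  · have hodd : Odd (Fintype.card F) := by
      obtain ⟨n, -, hn⟩ := FiniteField.card F p
      rw [hn]
      exact (hp.odd_of_ne_two hp2).pow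
    exact Cfsg.Agent.H805.WandPsl2.wand_psl2 hodd (h4 rfl)
  · obtain ⟨k, rfl⟩ : ∃ k, n = k + 2 := ⟨n - 2, by omega⟩
    refine Wand.of_central (QuotientGroup.mk' (Subgroup.center (_root_.Matrix.SpecialLinearGroup (Fin (k + 2)) F)))
      (QuotientGroup.mk'_surjective _) ?_ (wand_sl hp2 (by omega))
    rw [QuotientGroup.ker_mk']

end Cfsg.Agent.H132
end
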